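import Cfsg.Agent.H94.M24.Design
import Cfsg.Agent.Golay.Transport

/-!
Sextets: the sextet of a tetrad, and counting sextets fixed by a table.
-/

set_option autoImplicit false

namespace Cfsg.Agent.H94.M24

open Cfsg Cfsg.Agent.Golay
open scoped Pointwise

/-- The octads as a finset. -/
noncomputable def octadFin : Finset (Finset GolayPt) :=
  (Set.toFinite octads).toFinset

lemma mem_octadFin {o : Finset GolayPt} : o ∈ octadFin ↔ o ∈ octads := Set.Finite.mem_toFinset _

/-- The six tetrads determined by one of them. -/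
noncomputable def sextetOf (t : Finset GolayPt) : Finset (Finset GolayPt) :=
  insert t ((octadFin.filter fun o => t ⊆ o).image fun o => o \ t)

lemma mem_sextetOf {t u : Finset GolayPt} :
    u ∈ sextetOf t ↔ u = t ∨ (Disjoint t u ∧ t ∪ u ∈ octads) := by
  simp only [sextetOf, Finset.mem_insert, Finset.mem_image, Finset.mem_filter, mem_octadFin]
  constructor
  · rintro (h | ⟨o, ⟨ho, ht⟩, rfl⟩)
    · exact .inl h
    · exact .inr ⟨Finset.disjoint_sdiff, by rw [Finset.union_sdiff_of_subset ht]; exact ho⟩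
  · rintro (h | ⟨hd, ho⟩)
    · exact .inl h
    · exact .inr ⟨t ∪ u, ⟨ho, Finset.subset_union_left⟩, Finset.union_sdiff_cancel_left hd⟩

lemma disjoint_of_card_union {t u : Finset GolayPt} (ht : t.card = 4) (hu : u.card = 4)
    (h : (t ∪ u).card = 8) : Disjoint t u :=
  Finset.card_union_eq_card_add_card.1 (by omega)

lemma exists_mem_sextet {S : Finset (Finset GolayPt)} (hS : S ∈ sextets) (p : GolayPt) :
    ∃ v ∈ S, p ∈ v := by
  obtain ⟨hc, h4, ho⟩ := hS
  have hd : (S : Set (Finset GolayPt)).PairwiseDisjoint id := fun a ha b hb hab =>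
    disjoint_of_card_union (h4 a ha) (h4 b hb) (ho a ha b hb hab).2
  have : S.biUnion id = Finset.univ := by
    refine Finset.eq_univ_of_card _ ?_
    rw [Finset.card_biUnion hd, Finset.sum_congr rfl (fun x hx => (h4 x hx : (id x).card = 4)),
      Finset.sum_const, hc]
    decide
  have hp := Finset.mem_univ p
  rw [← this] at hp
  simpa using hp

lemma mem_iff_of_mem_sextet {S : Finset (Finset GolayPt)} (hS : S ∈ sextets) {t : Finset GolayPt}
    (ht : t ∈ S) : S = sextetOf t := by
  ext u
  rw [mem_sextetOf]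
  constructor
  · intro hu
    by_cases e : u = t
    · exact .inl e
    · exact .inr ⟨disjoint_of_card_union (hS.2.1 t ht) (hS.2.1 u hu)
        (hS.2.2 t ht u hu (Ne.symm e)).2, hS.2.2 t ht u hu (Ne.symm e)⟩
  · rintro (rfl | ⟨hd, ho⟩)
    · exact ht
    have hu4 : u.card = 4 := by
      have := ho.2
      rw [Finset.card_union_of_disjoint hd, hS.2.1 t ht] at this
      omega
    obtain ⟨p, hp⟩ := Finset.card_pos.1 (by omega : 0 < u.card)
    obtain ⟨v, hv, hpv⟩ := exists_mem_sextet hS p
    have hvt : t ≠ v := fun e => Finset.disjoint_right.1 hd hp (e ▸ hpv)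
    have ho' := hS.2.2 t ht v hv hvt
    have hdv := disjoint_of_card_union (hS.2.1 t ht) (hS.2.1 v hv) ho'.2
    have heq : t ∪ u = t ∪ v := octad_eq_of_five ho ho' (by
      have hsub : insert p t ⊆ (t ∪ u) ∩ (t ∪ v) := by
        intro x hx
        rcases Finset.mem_insert.1 hx with rfl | hx
        · simp [hp, hpv]
        · simp [hx]
      have := Finset.card_le_card hsub
      rw [Finset.card_insert_of_notMem (Finset.disjoint_right.1 hd hp), hS.2.1 t ht] at this
      exact this)
    rwa [← Finset.union_sdiff_cancel_left hd, heq, Finset.union_sdiff_cancel_left hdv]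

theorem sextetOf_mem {t : Finset GolayPt} (ht : t.card = 4) : sextetOf t ∈ sextets := by
  set O := octadFin.filter fun o => t ⊆ o with hO
  have hmem : ∀ o ∈ O, o ∈ octads ∧ t ⊆ o := fun o h => by
    simpa [hO, mem_octadFin] using h
  have hcard : ∀ o ∈ O, (o \ t).card = 4 := fun o h => by
    rw [Finset.card_sdiff_of_subset (hmem o h).2, (hmem o h).1.2, ht]
  have hdisj : ∀ o ∈ O, ∀ o' ∈ O, o ≠ o' → Disjoint (o \ t) (o' \ t) := by
    intro o ho o' ho' hne
    refine Finset.disjoint_left.2 fun p hp hp' => hne ?_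
    refine octad_eq_of_five (hmem o ho).1 (hmem o' ho').1 ?_
    rw [Finset.mem_sdiff] at hp hp'
    have hsub : insert p t ⊆ o ∩ o' := Finset.insert_subset (Finset.mem_inter.2 ⟨hp.1, hp'.1⟩)
      (Finset.subset_inter (hmem o ho).2 (hmem o' ho').2)
    have := Finset.card_le_card hsub
    rw [Finset.card_insert_of_notMem hp.2, ht] at this
    exact this
  have hcover : O.biUnion (fun o => o \ t) = Finset.univ \ t := by
    ext p
    simp only [Finset.mem_biUnion, Finset.mem_sdiff, Finset.mem_univ, true_and]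
    constructor
    · rintro ⟨o, -, -, h⟩; exact h
    · intro hp
      obtain ⟨o, ⟨ho, hsub⟩, -⟩ := octads_isSteinerSystem.2 (insert p t)
        (by rw [Finset.card_insert_of_notMem hp, ht])
      exact ⟨o, by simp [hO, mem_octadFin, ho, (Finset.insert_subset_iff.1 hsub).2],
        (Finset.insert_subset_iff.1 hsub).1, hp⟩
  have h5 : O.card = 5 := by
    have h20 : (Finset.univ \ t).card = 20 := by
      rw [Finset.card_sdiff_of_subset (Finset.subset_univ _), Finset.card_univ, ht]
      decide
    have := congrArg Finset.card hcover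
    rw [h20, Finset.card_biUnion hdisj, Finset.sum_congr rfl hcard, Finset.sum_const,
      smul_eq_mul] at this
    omega
  have hinj : Set.InjOn (fun o => o \ t) (O : Set (Finset GolayPt)) := by
    intro o ho o' ho' he
    rw [Finset.mem_coe] at ho ho'
    rw [← Finset.union_sdiff_of_subset (hmem o ho).2,
      ← Finset.union_sdiff_of_subset (hmem o' ho').2]
    exact congrArg (fun x => t ∪ x) he
  refine ⟨?_, ?_, ?_⟩
  · rw [sextetOf, Finset.card_insert_of_notMem, Finset.card_image_of_injOn hinj, h5]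
    intro h
    obtain ⟨o, -, he⟩ := Finset.mem_image.1 h
    have hne : t.Nonempty := Finset.card_pos.1 (by omega)
    obtain ⟨p, hp⟩ := hne
    exact (Finset.mem_sdiff.1 (he.symm ▸ hp : p ∈ o \ t)).2 hp
  · intro u hu
    rcases mem_sextetOf.1 hu with rfl | ⟨hd, ho⟩
    · exact ht
    · have := ho.2
      rw [Finset.card_union_of_disjoint hd, ht] at this
      omega
  · intro u hu v hv huv
    rcases mem_sextetOf.1 hu with rfl | ⟨hdu, hou⟩ <;>
      rcases mem_sextetOf.1 hv with e | ⟨hdv, hov⟩
    · exact absurd e.symm huv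
    · exact hov
    · subst e; rw [Finset.union_comm]; exact hou
    · have hu' : u = (t ∪ u) \ t := (Finset.union_sdiff_cancel_left hdu).symm
      have hv' : v = (t ∪ v) \ t := (Finset.union_sdiff_cancel_left hdv).symm
      have hne : t ∪ u ≠ t ∪ v := fun e => huv (by rw [hu', e, ← hv'])
      have hd := hdisj (t ∪ u) (by simp [hO, mem_octadFin, hou, Finset.subset_union_left])
        (t ∪ v) (by simp [hO, mem_octadFin, hov, Finset.subset_union_left]) hne
      rw [← hu', ← hv'] at hd
      have he : u ∪ v = symmDiff (t ∪ u) (t ∪ v) := by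
        ext p
        simp only [Finset.mem_union, Finset.mem_symmDiff]
        have h1 : p ∈ t → p ∉ u := fun h => Finset.disjoint_left.1 hdu h
        have h2 : p ∈ t → p ∉ v := fun h => Finset.disjoint_left.1 hdv h
        have h3 : p ∈ u → p ∉ v := fun h => Finset.disjoint_left.1 hd h
        tauto
      refine ⟨he ▸ symmDiff_mem_supports hou.1 hov.1, ?_⟩
      have h1 := hou.2
      have h2 := hov.2
      rw [Finset.card_union_of_disjoint hdu, ht] at h1
      rw [Finset.card_union_of_disjoint hdv, ht] at h2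
      rw [Finset.card_union_of_disjoint hd]
      omega

lemma self_mem_sextetOf (t : Finset GolayPt) : t ∈ sextetOf t := Finset.mem_insert_self _ _

lemma smul_mem_sextets {σ : Equiv.Perm GolayPt} (hσ : σ ∈ M24) {S : Finset (Finset GolayPt)}
    (h : S ∈ sextets) : σ • S ∈ sextets := by
  obtain ⟨hc, h4, ho⟩ := h
  refine ⟨by rw [Finset.card_smul_finset, hc], fun u h => ?_, fun u h v h' hne => ?_⟩
  · obtain ⟨x, hx, rfl⟩ := Finset.mem_smul_finset.1 h
    rw [Finset.card_smul_finset, h4 x hx]
  · obtain ⟨x, hx, rfl⟩ := Finset.mem_smul_finset.1 h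
    obtain ⟨y, hy, rfl⟩ := Finset.mem_smul_finset.1 h'
    rw [← Finset.smul_finset_union]
    exact smul_mem_octads hσ (ho x hx y hy fun e => hne (by rw [e]))

lemma smul_sextetOf {σ : Equiv.Perm GolayPt} (hσ : σ ∈ M24) {t : Finset GolayPt}
    (ht : t.card = 4) : σ • sextetOf t = sextetOf (σ • t) :=
  mem_iff_of_mem_sextet (smul_mem_sextets hσ (sextetOf_mem ht))
    (Finset.smul_mem_smul_finset (self_mem_sextetOf t))

lemma sextetOf_fixed_iff {σ : Equiv.Perm GolayPt} (hσ : σ ∈ M24) {t : Finset GolayPt}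
    (ht : t.card = 4) : σ • sextetOf t = sextetOf t ↔ σ • t ∈ sextetOf t := by
  rw [smul_sextetOf hσ ht]
  exact ⟨fun h => h ▸ self_mem_sextetOf _,
    fun h => (mem_iff_of_mem_sextet (sextetOf_mem ht) h).symm⟩

/-- The tetrad of three positions and the extra point. -/
def tetMask (i j k : ℕ) : ℕ := 2 ^ i ||| 2 ^ j ||| 2 ^ k ||| 2 ^ 23

/-- The tetrads through the extra point, one in each sextet. -/
def tetList : List ℕ :=
  (List.range 23).flatMap fun k => (List.range k).flatMap fun j =>
    (List.range j).map fun i => tetMask i j k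

lemma tetList_facts : (isIncr tetList &&
    (tetList.all fun m => (popCnt m == 4) && decide (m < 2 ^ 24) && m.testBit 23)) = true := by
  decide +kernel

lemma tetList_spec {m : ℕ} (h : m ∈ tetList) :
    (ptSet m).card = 4 ∧ m < 2 ^ 24 ∧ pt 23 ∈ ptSet m := by
  have := tetList_facts
  simp only [Bool.and_eq_true, List.all_eq_true, beq_iff_eq, decide_eq_true_eq] at this
  obtain ⟨⟨h1, h2⟩, h3⟩ := this.2 m h
  exact ⟨by rw [card_ptSet, h1], h2, by rw [mem_ptSet, idx_pt 23 (by norm_num)]; exact h3⟩

lemma tetList_nodup : tetList.Nodup := by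
  have := tetList_facts
  simp only [Bool.and_eq_true] at this
  exact isIncr_nodup this.1

lemma exists_tetList {t : Finset GolayPt} (ht : t.card = 4) (hn : pt 23 ∈ t) :
    ∃ m ∈ tetList, ptSet m = t := by
  obtain ⟨x, y, z, hxy, hxz, hyz, he⟩ := Finset.card_eq_three.1
    (show (t.erase (pt 23)).card = 3 by rw [Finset.card_erase_of_mem hn, ht])
  have ht' : t = insert (pt 23) {x, y, z} := by rw [← he, Finset.insert_erase hn]
  have hlt : ∀ a ∈ ({x, y, z} : Finset GolayPt), idx a < 23 := by
    intro a ha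
    rw [← he, Finset.mem_erase] at ha
    have := idx_lt a
    have h23 : idx a ≠ 23 := fun e => ha.1 (by rw [← e, pt_idx])
    omega
  have hx := hlt x (by simp)
  have hy := hlt y (by simp)
  have hz := hlt z (by simp)
  have key : ∀ a b c : GolayPt, idx a < idx b → idx b < idx c → idx c < 23 →
      ({x, y, z} : Finset GolayPt) = {a, b, c} → ∃ m ∈ tetList, ptSet m = t := by
    intro a b c h1 h2 h3 hs
    refine ⟨tetMask (idx a) (idx b) (idx c), ?_, ?_⟩
    · simp only [tetList, List.mem_flatMap, List.mem_map, List.mem_range]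
      exact ⟨idx c, h3, idx b, h2, idx a, h1, rfl⟩
    · rw [tetMask, ptSet_or, ptSet_or, ptSet_or, ptSet_two_pow (idx_lt a), ptSet_two_pow (idx_lt b),
        ptSet_two_pow (idx_lt c), ptSet_two_pow (by norm_num), pt_idx, pt_idx, pt_idx, ht', hs]
      ext p
      simp
      tauto
  rcases lt_or_gt_of_ne (fun h => hxy (idx_injective h)) with a | a <;>
    rcases lt_or_gt_of_ne (fun h => hxz (idx_injective h)) with b | b <;>
    rcases lt_or_gt_of_ne (fun h => hyz (idx_injective h)) with c | c
  · exact key x y z a c hz rfl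
  · exact key x z y b c hy (by ext; simp; tauto)
  · omega
  · exact key z x y b a hy (by ext; simp; tauto)
  · exact key y x z a b hz (by ext; simp; tauto)
  · omega
  · exact key y z x c b hx (by ext; simp; tauto)
  · exact key z y x c a hx (by ext; simp; tauto)

/-- The table maps the sextet of the tetrad `m` to itself. -/
def sextFix (T m : ℕ) : Bool :=
  tblImg T m == m || (popCnt (tblImg T m ||| m) == 8 && inCode (tblImg T m ||| m))

lemma sextFix_iff {T m : ℕ} (hT : validT T = true) (hM : mkPerm T ∈ M24) (hm : m < 2 ^ 24)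
    (h4 : (ptSet m).card = 4) :
    sextFix T m = true ↔ mkPerm T • sextetOf (ptSet m) = sextetOf (ptSet m) := by
  have hlt : tblImg T m ||| m < 2 ^ 24 := Nat.or_lt_two_pow (tblImg_lt hT m) hm
  have h4' : (ptSet (tblImg T m)).card = 4 := by
    rw [ptSet_tblImg hT, Finset.card_smul_finset, h4]
  rw [sextetOf_fixed_iff hM h4, mem_sextetOf, sextFix, Bool.or_eq_true, Bool.and_eq_true,
    beq_iff_eq, beq_iff_eq, inCode_iff, smul_ptSet_eq_iff hT hm, ← ptSet_tblImg hT,
    Finset.union_comm, ← ptSet_or]
  refine or_congr Iff.rfl ⟨fun h => ?_, fun h => ?_⟩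
  · have hc : (ptSet (tblImg T m ||| m)).card = 8 := by rw [card_ptSet, h.1]
    refine ⟨?_, (ptSet_mem_supports_iff hlt).2 h.2, hc⟩
    refine disjoint_of_card_union h4 h4' ?_
    rw [Finset.union_comm, ← ptSet_or]
    exact hc
  · exact ⟨by rw [← card_ptSet]; exact h.2.2, (ptSet_mem_supports_iff hlt).1 h.2.1⟩

theorem ncard_sextets_fixed {T : ℕ} (hT : validT T = true) (hM : mkPerm T ∈ M24) :
    {S : Finset (Finset GolayPt) | S ∈ sextets ∧ mkPerm T • S = S}.ncard
      = (tetList.filter (sextFix T)).length := by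
  rw [← List.toFinset_card_of_nodup (tetList_nodup.filter _), ← Set.ncard_coe_finset]
  refine (Set.ncard_congr (fun m _ => sextetOf (ptSet m)) ?_ ?_ ?_).symm
  · intro m hm
    rw [Finset.mem_coe, List.mem_toFinset, List.mem_filter] at hm
    obtain ⟨h4, hlt, -⟩ := tetList_spec hm.1
    exact ⟨sextetOf_mem h4, (sextFix_iff hT hM hlt h4).1 hm.2⟩
  · intro m n hm hn he
    rw [Finset.mem_coe, List.mem_toFinset, List.mem_filter] at hm hn
    obtain ⟨h4, hlt, h23⟩ := tetList_spec hm.1
    obtain ⟨h4', hlt', h23'⟩ := tetList_spec hn.1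
    rcases mem_sextetOf.1 (he ▸ self_mem_sextetOf (ptSet m) :
      ptSet m ∈ sextetOf (ptSet n)) with e | ⟨hd, -⟩
    · exact ptSet_injOn hlt hlt' e
    · exact absurd h23 (Finset.disjoint_left.1 hd h23')
  · rintro S ⟨hS, hfix⟩
    obtain ⟨v, hv, hp⟩ := exists_mem_sextet hS (pt 23)
    obtain ⟨m, hm, rfl⟩ := exists_tetList (hS.2.1 v hv) hp
    obtain ⟨h4, hlt, -⟩ := tetList_spec hm
    have hSv := mem_iff_of_mem_sextet hS hv
    refine ⟨m, ?_, hSv.symm⟩
    rw [Finset.mem_coe, List.mem_toFinset, List.mem_filter]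
    exact ⟨hm, (sextFix_iff hT hM hlt h4).2 (hSv ▸ hfix)⟩

end Cfsg.Agent.H94.M24
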