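import Cfsg.Agent.H94.M24.Class
import Cfsg.Agent.H94.M24.Sextet

/-!
Numbers of fixed octads, trios, sextets and dodecads of the representatives.
-/

set_option autoImplicit false

namespace Cfsg.Agent.H94.M24

open Cfsg Cfsg.Agent.Golay
open scoped Pointwise

/-- Transport of fixed-point counts along conjugation in the group of the code. -/
theorem ncard_fixed_conj {β : Type*} [MulAction (Equiv.Perm GolayPt) β] {A : Set β}
    (hA : ∀ k ∈ M24, ∀ x ∈ A, (k : Equiv.Perm GolayPt) • x ∈ A)
    {c r : Equiv.Perm GolayPt} (hc : c ∈ M24) :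
    {x : β | x ∈ A ∧ (c * r * c⁻¹) • x = x}.ncard = {x : β | x ∈ A ∧ r • x = x}.ncard := by
  refine Set.ncard_congr (fun x _ => c⁻¹ • x) ?_ ?_ ?_
  · rintro x ⟨hx, hfix⟩
    refine ⟨hA _ (inv_mem hc) x hx, ?_⟩
    conv_rhs => rw [← hfix]
    simp only [mul_smul, inv_smul_smul]
  · intro x y _ _ h
    simpa using h
  · rintro x ⟨hx, hfix⟩
    exact ⟨c • x, ⟨hA c hc x hx, by simp [mul_smul, hfix]⟩, inv_smul_smul c x⟩

lemma validT_reps : validT invRep0 = true ∧ validT invRep1 = true ∧ validT triRep0 = true ∧
    validT triRep1 = true := by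
  decide +kernel

lemma mem_reps : mkPerm invRep0 ∈ M24 ∧ mkPerm invRep1 ∈ M24 ∧ mkPerm triRep0 ∈ M24 ∧
    mkPerm triRep1 ∈ M24 :=
  ⟨mem_M24_of_inM24 (by decide +kernel), mem_M24_of_inM24 (by decide +kernel),
    mem_M24_of_inM24 (by decide +kernel), mem_M24_of_inM24 (by decide +kernel)⟩

lemma octad_counts :
    (octadList.filter fun m => tblImg invRep0 m == m).length = 15 ∧
    (octadList.filter fun m => tblImg invRep1 m == m).length = 71 ∧
    (octadList.filter fun m => tblImg triRep1 m == m).length = 21 := by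
  decide +kernel

lemma dodecad_count :
    ((wordList 12).filter fun m => tblImg triRep1 m == m).length = 20 := by
  decide +kernel

lemma sextet_counts :
    (tetList.filter (sextFix invRep0)).length = 51 ∧
    (tetList.filter (sextFix invRep1)).length = 91 ∧
    (tetList.filter (sextFix triRep0)).length = 7 ∧
    (tetList.filter (sextFix triRep1)).length = 16 := by
  decide +kernel

lemma trio_counts :
    (fixedTrios invRep0).toFinset.card = 75 ∧ (fixedTrios invRep1).toFinset.card = 99 ∧
    (fixedTrios triRep0).toFinset.card = 15 ∧ (fixedTrios triRep1).toFinset.card = 15 := by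
  decide +kernel

end Cfsg.Agent.H94.M24
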