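import Cfsg.Agent.H94.M24.Data
import Cfsg.Agent.Golay.Transport

/-!
Elements of order 2, 3 and 7 of the group of the code up to conjugacy.
-/

set_option autoImplicit false

namespace Cfsg.Agent.H94.M24

open Cfsg Cfsg.Agent.Golay
open scoped Pointwise

/-- The first four base positions. -/
def base4 : ℕ := 0 ||| 2 ^ 23 ||| 2 ^ 0 ||| 2 ^ 1 ||| 2 ^ 2

/-- Powers of a table. -/
def powT : ℕ → ℕ → ℕ
  | 0, _ => idTblVal
  | n + 1, t => tblMul t (powT n t)

lemma idTblVal_spec : validT idTblVal = true ∧ mkPerm idTblVal = 1 :=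
  gen_tables.2.2.2.2.2.2.2 ▸ idTbl_spec

lemma powT_spec {t : ℕ} (ht : validT t = true) :
    ∀ n, validT (powT n t) = true ∧ mkPerm (powT n t) = mkPerm t ^ n
  | 0 => by simpa [powT] using idTblVal_spec
  | n + 1 => by
    obtain ⟨h1, h2⟩ := powT_spec ht n
    obtain ⟨h3, h4⟩ := tblMul_spec ht h1
    exact ⟨h3, h4.trans (by rw [h2, pow_succ'])⟩

/-- Elements of exponent `p` with the same images of the first four base points as `g`. -/
def normList (g p : ℕ) : List ℕ :=
  (search (fun _ _ => true) base4 (m24Chain.drop 4) g).filter fun t => tblEq (powT p t) idTblVal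

/-- Each listed table is conjugated from one of the representatives by the matching conjugator. -/
def certOK (reps : List ℕ) : List ℕ → List ℕ → Bool
  | [], [] => true
  | t :: ts, c :: cs => inM24 c && (reps.any fun r => conjB c r t) && certOK reps ts cs
  | _, _ => false

lemma certOK_spec {reps : List ℕ} : ∀ {ts cs : List ℕ}, certOK reps ts cs = true →
    ∀ t ∈ ts, ∃ c, inM24 c = true ∧ ∃ r ∈ reps, conjB c r t = true
  | [], _, _, t, ht => by simp at ht
  | _ :: _, [], h, _, _ => by simp [certOK] at h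
  | x :: ts, c :: cs, h, t, ht => by
    simp only [certOK, Bool.and_eq_true, List.any_eq_true] at h
    rcases List.mem_cons.1 ht with rfl | ht
    · exact ⟨c, h.1.1, h.1.2⟩
    · exact certOK_spec h.2 t ht

lemma base4_chain : checkChain [] base4 (m24Chain.drop 4) = true := by decide +kernel

lemma mem_ptSet_base4 {p : GolayPt} :
    p ∈ ptSet base4 ↔ p = pt 23 ∨ p = pt 0 ∨ p = pt 1 ∨ p = pt 2 := by
  simp only [base4, ptSet_or, ptSet_zero, Finset.mem_union, Finset.notMem_empty, false_or,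
    ptSet_two_pow (by norm_num : (23 : ℕ) < 24), ptSet_two_pow (by norm_num : (0 : ℕ) < 24),
    ptSet_two_pow (by norm_num : (1 : ℕ) < 24), ptSet_two_pow (by norm_num : (2 : ℕ) < 24),
    Finset.mem_singleton, or_assoc]

theorem exists_rep {g p : ℕ} {reps certs : List ℕ} (hg : inM24 g = true)
    (hreps : reps.all validT = true) (hcert : certOK reps (normList g p) certs = true)
    {σ : Equiv.Perm GolayPt} (hσ : σ ∈ M24) (hp : σ ^ p = 1)
    (h23 : σ (pt 23) = pt (app g 23)) (h0 : σ (pt 0) = pt (app g 0))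
    (h1 : σ (pt 1) = pt (app g 1)) (h2 : σ (pt 2) = pt (app g 2)) :
    ∃ r ∈ reps, ∃ c ∈ M24, c * mkPerm r * c⁻¹ = σ := by
  have hvg := validT_of_inM24 hg
  have hτ : (mkPerm g)⁻¹ * σ ∈ stabGrp [] base4 := by
    refine ⟨mul_mem (inv_mem (mem_M24_of_inM24 hg)) hσ, by simp, fun q hq => ?_⟩
    rw [Equiv.Perm.mul_apply, Equiv.Perm.inv_def, Equiv.symm_apply_eq]
    rcases mem_ptSet_base4.1 hq with rfl | rfl | rfl | rfl
    · rw [h23, mkPerm_pt hvg (by norm_num)]
    · rw [h0, mkPerm_pt hvg (by norm_num)]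
    · rw [h1, mkPerm_pt hvg (by norm_num)]
    · rw [h2, mkPerm_pt hvg (by norm_num)]
  obtain ⟨t, ht, hvt, hte⟩ := mem_search (ok := fun _ _ => true) (P := fun _ => True)
    (fun _ _ _ _ _ => rfl) base4 _ g base4_chain hvg _ hτ trivial
  rw [mul_inv_cancel_left] at hte
  have hmem : t ∈ normList g p := by
    refine List.mem_filter.2 ⟨ht, ?_⟩
    rw [tblEq_iff (powT_spec hvt p).1 idTblVal_spec.1, (powT_spec hvt p).2, hte, hp,
      idTblVal_spec.2]
  obtain ⟨c, hc, r, hr, hconj⟩ := certOK_spec hcert t hmem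
  exact ⟨r, hr, mkPerm c, mem_M24_of_inM24 hc,
    ((conjB_iff (validT_of_inM24 hc) (List.all_eq_true.1 hreps r hr) hvt).1 hconj).trans hte⟩

/-- Lists of at most five distinct points are moved onto each other. -/
theorem exists_map_list {l l' : List GolayPt} (h : l.length = l'.length) (h5 : l.length ≤ 5)
    (hl : l.Nodup) (hl' : l'.Nodup) :
    ∃ k ∈ M24, l.map (fun x => (k : Equiv.Perm GolayPt) x) = l' := by
  obtain ⟨g, hg⟩ := exists_M24_map_points h5 (a := fun i => l.get i)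
    (b := fun i => l'.get (Fin.cast h i)) hl.injective_get
    (hl'.injective_get.comp (Fin.cast_injective h))
  refine ⟨g, g.2, List.ext_getElem (by simpa using h) fun i h1 h2 => ?_⟩
  rw [List.getElem_map]
  exact hg ⟨i, by simpa using h1⟩

lemma pow_apply_ne {σ : Equiv.Perm GolayPt} {p : ℕ} (hp : p.Prime) (hσ : σ ^ p = 1)
    {a : GolayPt} (ha : σ a ≠ a) {i j : ℕ} (hij : i < j) (hj : j < p) :
    (σ ^ i) a ≠ (σ ^ j) a := by
  intro h
  have hper : Function.IsPeriodicPt σ p a := by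
    show σ^[p] a = a
    rw [Equiv.Perm.iterate_eq_pow, hσ, Equiv.Perm.one_apply]
  have hmin : Function.minimalPeriod σ a = p := by
    rcases (Nat.dvd_prime hp).1 hper.minimalPeriod_dvd with h1 | h1
    · exact absurd (Function.minimalPeriod_eq_one_iff_isFixedPt.1 h1) ha
    · exact h1
  have := (Function.iterate_eq_iterate_iff_of_lt_minimalPeriod
    (f := σ) (x := a) (m := i) (n := j) (by omega) (by omega)).1
    (by rw [Equiv.Perm.iterate_eq_pow, Equiv.Perm.iterate_eq_pow]; exact h)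
  omega

/-- Number of fixed points. -/
def nfix (σ : Equiv.Perm GolayPt) : ℕ := (Finset.univ.filter fun p => σ p = p).card

lemma nfix_conj (c σ : Equiv.Perm GolayPt) : nfix (c * σ * c⁻¹) = nfix σ := by
  refine Finset.card_bij (fun p _ => c.symm p) ?_ ?_ ?_
  · intro p hp
    rw [Finset.mem_filter] at hp ⊢
    refine ⟨Finset.mem_univ _, c.injective ?_⟩
    rw [Equiv.apply_symm_apply]
    exact hp.2
  · intro p _ q _ h
    exact c.symm.injective h
  · intro p hp
    rw [Finset.mem_filter] at hp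
    refine ⟨c p, Finset.mem_filter.2 ⟨Finset.mem_univ _, ?_⟩, Equiv.symm_apply_apply _ _⟩
    rw [Equiv.Perm.mul_apply, Equiv.Perm.mul_apply, Equiv.Perm.inv_def, Equiv.symm_apply_apply,
      hp.2]

lemma nfix_eq_zero_iff {σ : Equiv.Perm GolayPt} : nfix σ = 0 ↔ ∀ p, σ p ≠ p := by
  simp [nfix, Finset.filter_eq_empty_iff]

lemma nfix_mkPerm {T : ℕ} (hT : validT T = true) :
    nfix (mkPerm T) = ((List.range 24).filter fun i => app T i == i).length := by
  rw [← List.toFinset_card_of_nodup (List.nodup_range.filter _)]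
  refine Finset.card_bij (fun p _ => idx p) ?_ ?_ ?_
  · intro p hp
    simp only [Finset.mem_filter, Finset.mem_univ, true_and] at hp
    simp only [List.mem_toFinset, List.mem_filter, List.mem_range, beq_iff_eq]
    exact ⟨idx_lt p, by rw [← idx_mkPerm hT, hp]⟩
  · intro p _ q _ h
    exact idx_injective h
  · intro i hi
    simp only [List.mem_toFinset, List.mem_filter, List.mem_range, beq_iff_eq] at hi
    exact ⟨pt i, by simp [mkPerm_pt hT hi.1, hi.2], idx_pt i hi.1⟩

lemma conj_mem {k σ : Equiv.Perm GolayPt} (hk : k ∈ M24) (hσ : σ ∈ M24) :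
    k⁻¹ * σ * k ∈ M24 := mul_mem (mul_mem (inv_mem hk) hσ) hk

lemma start_values :
    (app invStart 23, app invStart 0, app invStart 1, app invStart 2) = (0, 23, 2, 1) ∧
    (app triStart 23, app triStart 0, app triStart 1, app triStart 2) = (0, 1, 23, 3) ∧
    (app sevStart 23, app sevStart 0, app sevStart 1, app sevStart 2) = (0, 1, 2, 3) := by
  decide +kernel

lemma inv_check : inM24 invStart = true ∧ [invRep0, invRep1].all inM24 = true ∧
    certOK [invRep0, invRep1] (normList invStart 2) invConj = true := by decide +kernel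

lemma tri_check : inM24 triStart = true ∧ [triRep0, triRep1].all inM24 = true ∧
    certOK [triRep0, triRep1] (normList triStart 3) triConj = true := by decide +kernel

lemma sev_check : inM24 sevStart = true ∧ [sevRep0, sevRep1].all inM24 = true ∧
    certOK [sevRep0, sevRep1] (normList sevStart 7) sevConj = true := by decide +kernel

lemma all_validT {l : List ℕ} (h : l.all inM24 = true) : l.all validT = true :=
  List.all_eq_true.2 fun x hx => validT_of_inM24 (List.all_eq_true.1 h x hx)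

lemma exists_rep_of_conj {reps : List ℕ} {σ k : Equiv.Perm GolayPt} (hk : k ∈ M24)
    (h : ∃ r ∈ reps, ∃ c ∈ M24, c * mkPerm r * c⁻¹ = k⁻¹ * σ * k) :
    ∃ r ∈ reps, ∃ c ∈ M24, c * mkPerm r * c⁻¹ = σ := by
  obtain ⟨r, hr, c, hc, he⟩ := h
  refine ⟨r, hr, k * c, mul_mem hk hc, ?_⟩
  rw [show k * c * mkPerm r * (k * c)⁻¹ = k * (c * mkPerm r * c⁻¹) * k⁻¹ by group, he]
  group

lemma swap_not_mem : Equiv.swap (pt 23) (pt 0) ∉ M24 ∧
    Equiv.swap (pt 23) (pt 0) * Equiv.swap (pt 0) (pt 1) ∉ M24 := by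
  constructor <;> intro h <;>
    exact absurd ((inM24_iff (validT_tblOf _)).2 (by rwa [mkPerm_tblOf])) (by decide +kernel)

theorem exists_inv_rep {σ : Equiv.Perm GolayPt} (hσ : σ ∈ M24) (h2 : orderOf σ = 2) :
    ∃ r ∈ [invRep0, invRep1], ∃ c ∈ M24, c * mkPerm r * c⁻¹ = σ := by
  have hp : σ ^ 2 = 1 := h2 ▸ pow_orderOf_eq_one σ
  obtain ⟨a, ha⟩ : ∃ a, σ a ≠ a := by
    by_contra! h
    rw [show σ = 1 from Equiv.ext h, orderOf_one] at h2
    norm_num at h2
  have hinv : ∀ x, σ (σ x) = x := fun x => by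
    rw [← Equiv.Perm.mul_apply, ← sq, hp, Equiv.Perm.one_apply]
  obtain ⟨b, hb, hba, hba'⟩ : ∃ b, σ b ≠ b ∧ b ≠ a ∧ b ≠ σ a := by
    by_contra! h
    obtain ⟨k, hk, he⟩ := exists_map_list (l := [pt 23, pt 0]) (l' := [a, σ a]) rfl (by norm_num)
      (by decide) (by simp [Ne.symm ha])
    simp only [List.map_cons, List.map_nil, List.cons.injEq, and_true] at he
    refine swap_not_mem.1 ?_
    convert conj_mem hk hσ using 1
    ext x : 1
    rw [Equiv.Perm.mul_apply, Equiv.Perm.mul_apply, Equiv.Perm.inv_def, Equiv.eq_symm_apply]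
    rcases eq_or_ne x (pt 23) with rfl | n1
    · rw [Equiv.swap_apply_left, he.1, he.2]
    rcases eq_or_ne x (pt 0) with rfl | n2
    · rw [Equiv.swap_apply_right, he.1, he.2, hinv]
    rw [Equiv.swap_apply_of_ne_of_ne n1 n2]
    by_contra hne
    have hx := h (k x) (fun e => hne e.symm) fun e => n1 (k.injective (e.trans he.1.symm))
    exact n2 (k.injective (hx.trans he.2.symm))
  obtain ⟨k, hk, he⟩ := exists_map_list (l := [pt 23, pt 0, pt 1, pt 2])
    (l' := [a, σ a, b, σ b]) rfl (by norm_num) (by decide) (by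
      have n1 : a ≠ σ b := fun e => hba' (by rw [e, hinv])
      have n2 : σ a ≠ σ b := fun e => hba (σ.injective e).symm
      simp [Ne.symm ha, Ne.symm hba, Ne.symm hba', n1, n2, Ne.symm hb])
  simp only [List.map_cons, List.map_nil, List.cons.injEq, and_true] at he
  obtain ⟨e23, e0, e1, e2⟩ := he
  obtain ⟨hv, -, -⟩ := start_values
  simp only [Prod.mk.injEq] at hv
  obtain ⟨v23, v0, v1, v2⟩ := hv
  refine exists_rep_of_conj hk (exists_rep inv_check.1 (all_validT inv_check.2.1) inv_check.2.2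
    (conj_mem hk hσ) ?_ ?_ ?_ ?_ ?_)
  · rw [sq, show k⁻¹ * σ * k * (k⁻¹ * σ * k) = k⁻¹ * (σ * σ) * k by group, ← sq, hp]
    group
  all_goals
    rw [Equiv.Perm.mul_apply, Equiv.Perm.mul_apply, Equiv.Perm.inv_def, Equiv.symm_apply_eq]
  · rw [e23, v23, e0]
  · rw [e0, v0, e23, hinv]
  · rw [e1, v1, e2]
  · rw [e2, v2, e1, hinv]

theorem exists_tri_rep {σ : Equiv.Perm GolayPt} (hσ : σ ∈ M24) (h3 : orderOf σ = 3) :
    ∃ r ∈ [triRep0, triRep1], ∃ c ∈ M24, c * mkPerm r * c⁻¹ = σ := by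
  have hp : σ ^ 3 = 1 := h3 ▸ pow_orderOf_eq_one σ
  obtain ⟨a, ha⟩ : ∃ a, σ a ≠ a := by
    by_contra! h
    rw [show σ = 1 from Equiv.ext h, orderOf_one] at h3
    norm_num at h3
  have hcube : ∀ x, σ (σ (σ x)) = x := fun x => by
    have : (σ ^ 3) x = x := by rw [hp, Equiv.Perm.one_apply]
    simpa [pow_succ] using this
  have na : a ≠ σ (σ a) := fun e => ha (by nth_rw 1 [e]; exact hcube a)
  have naa : σ a ≠ σ (σ a) := fun e => ha (σ.injective e).symm
  obtain ⟨b, hb, hba, hba', hba''⟩ : ∃ b, σ b ≠ b ∧ b ≠ a ∧ b ≠ σ a ∧ b ≠ σ (σ a) := by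
    by_contra! h
    obtain ⟨k, hk, he⟩ := exists_map_list (l := [pt 23, pt 0, pt 1])
      (l' := [a, σ a, σ (σ a)]) rfl (by norm_num) (by decide) (by simp [Ne.symm ha, na, naa])
    simp only [List.map_cons, List.map_nil, List.cons.injEq, and_true] at he
    refine swap_not_mem.2 ?_
    convert conj_mem hk hσ using 1
    ext x : 1
    rw [Equiv.Perm.mul_apply, Equiv.Perm.mul_apply, Equiv.Perm.mul_apply, Equiv.Perm.inv_def,
      Equiv.eq_symm_apply]
    rcases eq_or_ne x (pt 23) with rfl | n1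
    · rw [Equiv.swap_apply_of_ne_of_ne (show pt 23 ≠ pt 0 by decide) (show pt 23 ≠ pt 1 by decide),
        Equiv.swap_apply_left, he.1, he.2.1]
    rcases eq_or_ne x (pt 0) with rfl | n2
    · rw [Equiv.swap_apply_left,
        Equiv.swap_apply_of_ne_of_ne (show pt 1 ≠ pt 23 by decide) (show pt 1 ≠ pt 0 by decide),
        he.2.1,
        he.2.2]
    rcases eq_or_ne x (pt 1) with rfl | n3
    · rw [Equiv.swap_apply_right, Equiv.swap_apply_right, he.1, he.2.2, hcube]
    rw [Equiv.swap_apply_of_ne_of_ne n2 n3, Equiv.swap_apply_of_ne_of_ne n1 n2]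
    by_contra hne
    have hx := h (k x) (fun e => hne e.symm) (fun e => n1 (k.injective (e.trans he.1.symm)))
      fun e => n2 (k.injective (e.trans he.2.1.symm))
    exact n3 (k.injective (hx.trans he.2.2.symm))
  obtain ⟨k, hk, he⟩ := exists_map_list (l := [pt 23, pt 0, pt 1, pt 2, pt 3])
    (l' := [a, σ a, σ (σ a), b, σ b]) rfl (by norm_num) (by decide) (by
      have n1 : a ≠ σ b := fun e => hba'' (σ.injective (by rw [hcube, ← e]))
      have n2 : σ a ≠ σ b := fun e => hba (σ.injective e).symm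
      have n3 : σ (σ a) ≠ σ b := fun e => hba' (σ.injective e).symm
      simp [Ne.symm ha, na, naa, Ne.symm hba, Ne.symm hba', Ne.symm hba'', n1, n2, n3, Ne.symm hb])
  simp only [List.map_cons, List.map_nil, List.cons.injEq, and_true] at he
  obtain ⟨e23, e0, e1, e2, e3⟩ := he
  obtain ⟨-, hv, -⟩ := start_values
  simp only [Prod.mk.injEq] at hv
  obtain ⟨v23, v0, v1, v2⟩ := hv
  refine exists_rep_of_conj hk (exists_rep tri_check.1 (all_validT tri_check.2.1) tri_check.2.2
    (conj_mem hk hσ) ?_ ?_ ?_ ?_ ?_)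
  · have h := conj_pow (i := 3) (a := k⁻¹) (b := σ)
    rw [inv_inv] at h
    rw [h, hp]
    group
  all_goals
    rw [Equiv.Perm.mul_apply, Equiv.Perm.mul_apply, Equiv.Perm.inv_def, Equiv.symm_apply_eq]
  · rw [e23, v23, e0]
  · rw [e0, v0, e1]
  · rw [e1, v1, e23, hcube]
  · rw [e2, v2, e3]

theorem exists_sev_rep {σ : Equiv.Perm GolayPt} (hσ : σ ∈ M24) (h7 : orderOf σ = 7) :
    ∃ r ∈ [sevRep0, sevRep1], ∃ c ∈ M24, c * mkPerm r * c⁻¹ = σ := by
  have hp : σ ^ 7 = 1 := h7 ▸ pow_orderOf_eq_one σ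
  obtain ⟨a, ha⟩ : ∃ a, σ a ≠ a := by
    by_contra! h
    rw [show σ = 1 from Equiv.ext h, orderOf_one] at h7
    norm_num at h7
  have hne : ∀ i j : ℕ, i < j → j < 7 → (σ ^ i) a ≠ (σ ^ j) a :=
    fun i j h1 h2 => pow_apply_ne (by norm_num) hp ha h1 h2
  obtain ⟨k, hk, he⟩ := exists_map_list (l := [pt 23, pt 0, pt 1, pt 2, pt 3])
    (l' := [(σ ^ 0) a, (σ ^ 1) a, (σ ^ 2) a, (σ ^ 3) a, (σ ^ 4) a]) rfl (by norm_num) (by decide)
    (by
      have := hne 0 1; have := hne 0 2; have := hne 0 3; have := hne 0 4; have := hne 1 2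
      have := hne 1 3; have := hne 1 4; have := hne 2 3; have := hne 2 4; have := hne 3 4
      simp_all)
  simp only [List.map_cons, List.map_nil, List.cons.injEq, and_true] at he
  obtain ⟨e23, e0, e1, e2, e3⟩ := he
  obtain ⟨-, -, hv⟩ := start_values
  simp only [Prod.mk.injEq] at hv
  obtain ⟨v23, v0, v1, v2⟩ := hv
  refine exists_rep_of_conj hk (exists_rep sev_check.1 (all_validT sev_check.2.1) sev_check.2.2
    (conj_mem hk hσ) ?_ ?_ ?_ ?_ ?_)
  · have h := conj_pow (i := 7) (a := k⁻¹) (b := σ)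
    rw [inv_inv] at h
    rw [h, hp]
    group
  all_goals
    rw [Equiv.Perm.mul_apply, Equiv.Perm.mul_apply, Equiv.Perm.inv_def, Equiv.symm_apply_eq]
  · rw [e23, v23, e0, pow_one, pow_zero, Equiv.Perm.one_apply]
  · rw [e0, v0, e1, pow_succ' σ 1, Equiv.Perm.mul_apply]
  · rw [e1, v1, e2, pow_succ' σ 2, Equiv.Perm.mul_apply]
  · rw [e2, v2, e3, pow_succ' σ 3, Equiv.Perm.mul_apply]

lemma nfix_reps : nfix (mkPerm invRep0) = 0 ∧ nfix (mkPerm invRep1) = 8 ∧
    nfix (mkPerm triRep0) = 0 ∧ nfix (mkPerm triRep1) = 6 := by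
  rw [nfix_mkPerm (by decide +kernel), nfix_mkPerm (by decide +kernel),
    nfix_mkPerm (by decide +kernel), nfix_mkPerm (by decide +kernel)]
  decide +kernel

lemma exists_rep_of_nfix {a b : ℕ} {σ : Equiv.Perm GolayPt}
    (h : ∃ r ∈ [a, b], ∃ c ∈ M24, c * mkPerm r * c⁻¹ = σ)
    (hab : nfix (mkPerm a) ≠ nfix (mkPerm b)) :
    (nfix σ = nfix (mkPerm a) → ∃ c ∈ M24, c * mkPerm a * c⁻¹ = σ) ∧
    (nfix σ = nfix (mkPerm b) → ∃ c ∈ M24, c * mkPerm b * c⁻¹ = σ) ∧
    (nfix σ = nfix (mkPerm a) ∨ nfix σ = nfix (mkPerm b)) := by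
  obtain ⟨r, hr, c, hc, rfl⟩ := h
  rw [nfix_conj]
  simp only [List.mem_cons, List.not_mem_nil, or_false] at hr
  rcases hr with rfl | rfl
  · exact ⟨fun _ => ⟨c, hc, rfl⟩, fun h => absurd h hab, .inl rfl⟩
  · exact ⟨fun h => absurd h.symm hab, fun _ => ⟨c, hc, rfl⟩, .inr rfl⟩

end Cfsg.Agent.H94.M24
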