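import Cfsg.Agent.Golay.M24

/-!
Complete searches through a checked stabiliser chain of the group of the code.
-/

set_option autoImplicit false

namespace Cfsg.Agent.H94.M24

open Cfsg Cfsg.Agent.Golay
open scoped Pointwise

/-- All products along a chain passing the test `ok` on the positions fixed so far. -/
def search (ok : ℕ → (ℕ → ℕ) → Bool) : ℕ → List (ℕ × List ℕ) → ℕ → List ℕ
  | _, [], g => [g]
  | F, (b, ts) :: rest, g => ts.flatMap fun u =>
      if ok (F ||| 2 ^ b) (fun i => app g (app u i)) then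
        search ok (F ||| 2 ^ b) rest (tblMul g u)
      else []

theorem mem_search {ok : ℕ → (ℕ → ℕ) → Bool} {P : Equiv.Perm GolayPt → Prop}
    (hok : ∀ F f σ, P σ →
      (∀ i < 24, F.testBit i = true ∨ stabGrp [] F = ⊥ → f i = idx (σ (pt i))) →
      ok F f = true) :
    ∀ (F : ℕ) (L : List (ℕ × List ℕ)) (g : ℕ), checkChain [] F L = true → validT g = true →
      ∀ τ ∈ stabGrp [] F, P (mkPerm g * τ) →
        ∃ t ∈ search ok F L g, validT t = true ∧ mkPerm t = mkPerm g * τ
  | F, [], g, h, hg, τ, hτ, _ => by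
    rw [stabGrp_eq_bot' (by simpa [checkChain] using h), Subgroup.mem_bot] at hτ
    exact ⟨g, List.mem_singleton.2 rfl, hg, by rw [hτ, mul_one]⟩
  | F, (b, ts) :: rest, g, h, hg, τ, hτ, hP => by
    simp only [checkChain, Bool.and_eq_true, decide_eq_true_eq, List.all_eq_true] at h
    obtain ⟨⟨⟨⟨hb, hts⟩, ho⟩, -⟩, hrest⟩ := h
    have horb := orbit_eq_of_check hb hts (eq_of_beq ho) (le_refl (stabGrp [] F))
      (fun t ht => mem_stabGrp_of_inStab (hts t ht))
    have hmem : τ (pt b) ∈ MulAction.orbit (stabGrp [] F) (pt b) := ⟨⟨τ, hτ⟩, rfl⟩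
    rw [horb, Finset.mem_coe, mem_ptSet, testBit_orbitMask] at hmem
    obtain ⟨u, hu, hub⟩ := hmem
    have hst := mem_stabGrp_of_inStab (hts u hu)
    have hv : validT u = true := by
      have := hts u hu
      simp only [inStab, Bool.and_eq_true] at this
      exact validT_of_inM24 this.1.1
    have hρ : (mkPerm u)⁻¹ * τ ∈ stabGrp [] (F ||| 2 ^ b) := by
      rw [stabGrp_or [] F hb, Subgroup.mem_inf]
      refine ⟨mul_mem (inv_mem hst) hτ, ?_⟩
      show ((mkPerm u)⁻¹ * τ) (pt b) = pt b
      rw [Equiv.Perm.mul_apply, Equiv.Perm.inv_def, Equiv.symm_apply_eq, mkPerm_pt hv hb, hub,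
        pt_idx]
    obtain ⟨hvgu, hgu⟩ := tblMul_spec hg hv
    have heq : mkPerm (tblMul g u) * ((mkPerm u)⁻¹ * τ) = mkPerm g * τ := by
      rw [hgu]; group
    obtain ⟨t, ht, hvt, hteq⟩ := mem_search hok (F ||| 2 ^ b) rest (tblMul g u) hrest hvgu _ hρ
      (by rw [heq]; exact hP)
    refine ⟨t, List.mem_flatMap.2 ⟨u, hu, ?_⟩, hvt, hteq.trans heq⟩
    rw [if_pos]
    · exact ht
    refine hok _ _ _ hP fun i hi hF => ?_
    have hfix : ((mkPerm u)⁻¹ * τ) (pt i) = pt i := by
      rcases hF with hF | hF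
      · exact hρ.2.2 _ (by rw [mem_ptSet, idx_pt i hi]; exact hF)
      · rw [hF, Subgroup.mem_bot] at hρ
        rw [hρ, Equiv.Perm.one_apply]
    rw [← heq, Equiv.Perm.mul_apply, hfix, hgu,
      Equiv.Perm.mul_apply, idx_mkPerm hg, idx_mkPerm hv, idx_pt i hi]

lemma mkTbl_congr : ∀ {n : ℕ} {f f' : ℕ → ℕ}, (∀ i < n, f i = f' i) → mkTbl n f = mkTbl n f'
  | 0, _, _, _ => rfl
  | n + 1, f, f', h => by
    simp only [mkTbl]
    rw [h 0 n.succ_pos, mkTbl_congr (f' := fun i => f' (i + 1))
      fun i hi => h (i + 1) (Nat.succ_lt_succ hi)]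

/-- A table in normal form. -/
def canonT (T : ℕ) : Bool := validT T && (mkTbl 24 (app T) == T)

lemma tblOf_mkPerm {T : ℕ} (h : canonT T = true) : tblOf (mkPerm T) = T := by
  rw [canonT, Bool.and_eq_true] at h
  refine Eq.trans (mkTbl_congr fun i hi => ?_) (eq_of_beq h.2)
  rw [idx_mkPerm h.1, idx_pt i hi]

lemma canonT_tblMul {A B : ℕ} (hA : validT A = true) (hB : validT B = true) :
    canonT (tblMul A B) = true := by
  rw [canonT, (tblMul_spec hA hB).1, Bool.true_and, beq_iff_eq]
  exact mkTbl_congr fun i hi => app_tblMul hi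

lemma canonT_validT {T : ℕ} (h : canonT T = true) : validT T = true := by
  rw [canonT, Bool.and_eq_true] at h
  exact h.1

theorem search_sound {ok : ℕ → (ℕ → ℕ) → Bool} :
    ∀ (F : ℕ) (L : List (ℕ × List ℕ)) (g : ℕ), checkChain [] F L = true → canonT g = true →
      ∀ t ∈ search ok F L g, canonT t = true ∧ ∃ τ ∈ stabGrp [] F, mkPerm t = mkPerm g * τ
  | F, [], g, _, hg, t, ht => by
    rw [search, List.mem_singleton] at ht
    subst ht
    exact ⟨hg, 1, one_mem _, (mul_one _).symm⟩
  | F, (b, ts) :: rest, g, h, hg, t, ht => by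
    simp only [checkChain, Bool.and_eq_true, decide_eq_true_eq, List.all_eq_true] at h
    obtain ⟨⟨⟨⟨hb, hts⟩, -⟩, -⟩, hrest⟩ := h
    rw [search, List.mem_flatMap] at ht
    obtain ⟨u, hu, ht⟩ := ht
    split at ht
    · have hst := mem_stabGrp_of_inStab (hts u hu)
      have hv : validT u = true := by
        have := hts u hu
        simp only [inStab, Bool.and_eq_true] at this
        exact validT_of_inM24 this.1.1
      obtain ⟨hc, τ, hτ, he⟩ := search_sound _ rest (tblMul g u) hrest
        (canonT_tblMul (canonT_validT hg) hv) t ht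
      rw [stabGrp_or [] F hb] at hτ
      refine ⟨hc, mkPerm u * τ, mul_mem hst hτ.1, ?_⟩
      rw [he, (tblMul_spec (canonT_validT hg) hv).2, mul_assoc]
    · simp at ht

theorem search_nodup {ok : ℕ → (ℕ → ℕ) → Bool} :
    ∀ (F : ℕ) (L : List (ℕ × List ℕ)) (g : ℕ), checkChain [] F L = true → canonT g = true →
      (search ok F L g).Nodup
  | F, [], g, _, _ => List.nodup_singleton g
  | F, (b, ts) :: rest, g, h, hg => by
    simp only [checkChain, Bool.and_eq_true, decide_eq_true_eq, List.all_eq_true] at h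
    obtain ⟨⟨⟨⟨hb, hts⟩, -⟩, hlen⟩, hrest⟩ := h
    have hv : ∀ u ∈ ts, validT u = true := by
      intro u hu
      have := hts u hu
      simp only [inStab, Bool.and_eq_true] at this
      exact validT_of_inM24 this.1.1
    have hlt : ∀ u ∈ ts, app u b < 24 := fun u hu => (validT_bijective (hv u hu)).2 b hb
    have himg : ptSet (orbitMask ts b) = (ts.map fun u => pt (app u b)).toFinset := by
      ext p
      rw [mem_ptSet, testBit_orbitMask, List.mem_toFinset, List.mem_map]
      constructor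
      · rintro ⟨u, hu, he⟩; exact ⟨u, hu, by rw [he, pt_idx]⟩
      · rintro ⟨u, hu, rfl⟩; exact ⟨u, hu, (idx_pt _ (hlt u hu)).symm⟩
    have hnd : (ts.map fun u => pt (app u b)).Nodup := by
      have hc := card_ptSet (orbitMask ts b)
      rw [himg, eq_of_beq hlen, List.card_toFinset] at hc
      refine List.dedup_eq_self.1 ((List.dedup_sublist _).eq_of_length ?_)
      rw [hc, List.length_map]
    rw [search, List.nodup_flatMap]
    refine ⟨fun u hu => ?_, ?_⟩
    · split
      · exact search_nodup _ rest _ hrest (canonT_tblMul (canonT_validT hg) (hv u hu))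
      · exact List.nodup_nil
    · refine (List.Pairwise.and_mem.1 (List.pairwise_map.1 hnd)).imp ?_
      rintro u w ⟨hu, hw, hne⟩ t ht ht'
      simp only at ht ht'
      split at ht <;> [skip; simp at ht]
      split at ht' <;> [skip; simp at ht']
      obtain ⟨-, τ, hτ, he⟩ := search_sound _ rest _ hrest
        (canonT_tblMul (canonT_validT hg) (hv u hu)) t ht
      obtain ⟨-, τ', hτ', he'⟩ := search_sound _ rest _ hrest
        (canonT_tblMul (canonT_validT hg) (hv w hw)) t ht'
      rw [(tblMul_spec (canonT_validT hg) (hv u hu)).2] at he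
      rw [(tblMul_spec (canonT_validT hg) (hv w hw)).2] at he'
      rw [stabGrp_or [] F hb] at hτ hτ'
      have hfix : τ (pt b) = pt b := hτ.2
      have hfix' : τ' (pt b) = pt b := hτ'.2
      have := DFunLike.congr_fun (he.symm.trans he') (pt b)
      simp only [Equiv.Perm.mul_apply, hfix, hfix', EmbeddingLike.apply_eq_iff_eq] at this
      rw [mkPerm_pt (hv u hu) hb, mkPerm_pt (hv w hw) hb] at this
      exact hne this

theorem natCard_eq_length (P : Equiv.Perm GolayPt → Prop) (l : List ℕ) (hl : l.Nodup)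
    (hc : ∀ t ∈ l, canonT t = true ∧ P (mkPerm t)) (h : ∀ σ, P σ → ∃ t ∈ l, mkPerm t = σ) :
    Nat.card {σ // P σ} = l.length := by
  rw [← List.toFinset_card_of_nodup hl, ← Nat.card_eq_finsetCard]
  refine (Nat.card_eq_of_bijective (fun t => ⟨mkPerm t.1, (hc _ (List.mem_toFinset.1 t.2)).2⟩)
    ⟨fun a b hab => ?_, fun ⟨σ, hσ⟩ => ?_⟩).symm
  · have e := congrArg (fun x => tblOf x.1) hab
    simp only [tblOf_mkPerm (hc _ (List.mem_toFinset.1 a.2)).1,
      tblOf_mkPerm (hc _ (List.mem_toFinset.1 b.2)).1] at e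
    exact Subtype.ext e
  · obtain ⟨t, ht, rfl⟩ := h σ hσ
    exact ⟨⟨t, List.mem_toFinset.2 ht⟩, rfl⟩

lemma tblEq_iff {A B : ℕ} (hA : validT A = true) (hB : validT B = true) :
    tblEq A B = true ↔ mkPerm A = mkPerm B := by
  refine ⟨mkPerm_eq_of_tblEq hA hB, fun h => ?_⟩
  rw [tblEq, List.all_eq_true]
  intro i hi
  have hi' := List.mem_range.1 hi
  have := congrArg idx (DFunLike.congr_fun h (pt i))
  rw [idx_mkPerm hA, idx_mkPerm hB, idx_pt i hi'] at this
  exact beq_iff_eq.2 this

/-- The tables commute. -/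
def commB (A B : ℕ) : Bool := tblEq (tblMul A B) (tblMul B A)

lemma commB_iff {A B : ℕ} (hA : validT A = true) (hB : validT B = true) :
    commB A B = true ↔ mkPerm A * mkPerm B = mkPerm B * mkPerm A := by
  rw [commB, tblEq_iff (tblMul_spec hA hB).1 (tblMul_spec hB hA).1, (tblMul_spec hA hB).2,
    (tblMul_spec hB hA).2]

/-- `A` conjugates `B` to `C`. -/
def conjB (A B C : ℕ) : Bool := tblEq (tblMul A B) (tblMul C A)

lemma conjB_iff {A B C : ℕ} (hA : validT A = true) (hB : validT B = true)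
    (hC : validT C = true) :
    conjB A B C = true ↔ mkPerm A * mkPerm B * (mkPerm A)⁻¹ = mkPerm C := by
  rw [conjB, tblEq_iff (tblMul_spec hA hB).1 (tblMul_spec hC hA).1, (tblMul_spec hA hB).2,
    (tblMul_spec hC hA).2, mul_inv_eq_iff_eq_mul]

/-- Test for the relation `σ s = s' σ` on the known positions. -/
def okRel (s s' : ℕ) (F : ℕ) (f : ℕ → ℕ) : Bool :=
  (List.range 24).all fun i =>
    !(F.testBit i && F.testBit (app s i)) || f (app s i) == app s' (f i)

lemma okRel_of_rel {s s' : ℕ} (hs : validT s = true) (hs' : validT s' = true) {F : ℕ}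
    {f : ℕ → ℕ} {σ : Equiv.Perm GolayPt} (h : σ * mkPerm s = mkPerm s' * σ)
    (hf : ∀ i < 24, F.testBit i = true → f i = idx (σ (pt i))) : okRel s s' F f = true := by
  rw [okRel, List.all_eq_true]
  intro i hi
  have hi' := List.mem_range.1 hi
  by_cases hFi : F.testBit i = true ∧ F.testBit (app s i) = true
  · rw [hFi.1, hFi.2, Bool.and_self, Bool.not_true, Bool.false_or, beq_iff_eq,
      hf i hi' hFi.1, hf _ ((validT_bijective hs).2 i hi') hFi.2]
    have := DFunLike.congr_fun h (pt i)
    rw [Equiv.Perm.mul_apply, Equiv.Perm.mul_apply, mkPerm_pt hs hi'] at this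
    rw [this, idx_mkPerm hs']
  · rw [Bool.or_eq_true]
    refine Or.inl ?_
    rw [Bool.not_eq_true', Bool.and_eq_false_iff]
    by_cases h1 : F.testBit i = true
    · exact Or.inr (Bool.eq_false_iff.2 fun h2 => hFi ⟨h1, h2⟩)
    · exact Or.inl (Bool.eq_false_iff.2 h1)

end Cfsg.Agent.H94.M24
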