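import Cfsg.Agent.H94.M24.Rel
import Cfsg.Agent.H94.M24.Sextet

/-!
The centraliser of the fixed-point-free representative involution.
-/

set_option autoImplicit false

namespace Cfsg.Agent.H94.M24

open Cfsg Cfsg.Agent.Golay
open scoped Pointwise

/-- The centraliser of the fixed-point-free involution. -/
noncomputable def invCentGrp : Subgroup (Equiv.Perm GolayPt) :=
  M24 ⊓ Subgroup.centralizer {mkPerm invRep0}

lemma mem_invCentGrp {σ : Equiv.Perm GolayPt} :
    σ ∈ invCentGrp ↔ σ ∈ M24 ∧ σ * mkPerm invRep0 = mkPerm invRep0 * σ := by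
  simp [invCentGrp, Subgroup.mem_centralizer_iff, eq_comm]

/-- Stabiliser of a point in the centraliser. -/
def invCentStab : List ℕ := relList invRep0 invRep0 (0 ||| 2 ^ 23) (m24Chain.drop 1)

lemma invRep0_valid : validT invRep0 = true := by decide +kernel

lemma invCentStab_facts :
    invCentStab.length = 320 ∧ (invCentStab.all fun t => sextFix t centTetrad) = true := by
  decide +kernel

lemma invCentStab_nodup : invCentStab.Nodup := relList_nodup point_chain

lemma centTrans_facts :
    (centTrans.all fun t => inM24 t && commB t invRep0 && sextFix t centTetrad) = true ∧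
    ((List.range 24).all fun q => centTrans.any fun t => app t 23 == q) = true := by
  decide +kernel

lemma centTrans_spec {t : ℕ} (ht : t ∈ centTrans) :
    validT t = true ∧ mkPerm t ∈ invCentGrp ∧ sextFix t centTetrad = true := by
  have := List.all_eq_true.1 centTrans_facts.1 t ht
  simp only [Bool.and_eq_true] at this
  exact ⟨validT_of_inM24 this.1.1, mem_invCentGrp.2 ⟨mem_M24_of_inM24 this.1.1,
    (commB_iff (validT_of_inM24 this.1.1) invRep0_valid).1 this.1.2⟩, this.2⟩

lemma exists_centTrans (p : GolayPt) : ∃ t ∈ centTrans, mkPerm t (pt 23) = p := by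
  obtain ⟨t, ht, he⟩ :=
    List.any_eq_true.1 (List.all_eq_true.1 centTrans_facts.2 (idx p) (List.mem_range.2 (idx_lt p)))
  exact ⟨t, ht, by rw [mkPerm_pt (centTrans_spec ht).1 (by norm_num), eq_of_beq he, pt_idx]⟩

theorem invCentGrp_transitive (p q : GolayPt) : ∃ σ ∈ invCentGrp, σ p = q := by
  obtain ⟨u, hu, hup⟩ := exists_centTrans p
  obtain ⟨w, hw, hwq⟩ := exists_centTrans q
  refine ⟨mkPerm w * (mkPerm u)⁻¹, mul_mem (centTrans_spec hw).2.1
    (inv_mem (centTrans_spec hu).2.1), ?_⟩
  rw [← hup, Equiv.Perm.mul_apply, Equiv.Perm.inv_def, Equiv.symm_apply_apply, hwq]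

theorem card_invCentGrp : Nat.card invCentGrp = 7680 := by
  have horb : MulAction.orbit invCentGrp (pt 23) = Set.univ := by
    refine Set.eq_univ_of_forall fun p => ?_
    obtain ⟨σ, hσ, he⟩ := invCentGrp_transitive (pt 23) p
    exact ⟨⟨σ, hσ⟩, he⟩
  rw [card_eq_orbit_mul_stab invCentGrp (pt 23), horb, Set.ncard_univ, Nat.card_eq_fintype_card,
    show Fintype.card GolayPt = 24 from rfl]
  suffices Nat.card {σ : Equiv.Perm GolayPt //
      σ ∈ invCentGrp ⊓ MulAction.stabilizer (Equiv.Perm GolayPt) (pt 23)} = 320 by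
    exact (congrArg (fun n => 24 * n) this).trans (by norm_num)
  rw [← invCentStab_facts.1]
  refine natCard_eq_length _ _ invCentStab_nodup (fun t ht => ?_) fun σ hσ => ?_
  · obtain ⟨hcan, hst, hrel⟩ := relList_sound invRep0_valid invRep0_valid point_chain ht
    refine ⟨hcan, Subgroup.mem_inf.2 ⟨mem_invCentGrp.2 ⟨hst.1, hrel⟩, ?_⟩⟩
    rw [MulAction.mem_stabilizer_iff, Equiv.Perm.smul_def]
    exact hst.2.2 _ (by rw [mem_ptSet, idx_pt 23 (by norm_num)]; decide)
  · rw [Subgroup.mem_inf, MulAction.mem_stabilizer_iff, Equiv.Perm.smul_def, mem_invCentGrp] at hσ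
    have hst : σ ∈ stabGrp [] (0 ||| 2 ^ 23) := by
      rw [stabGrp_or [] 0 (by norm_num), stabGrp_nil_zero]
      exact ⟨hσ.1.1, hσ.2⟩
    obtain ⟨t, ht, -, he⟩ := mem_relList invRep0_valid invRep0_valid point_chain hst hσ.1.2
    exact ⟨t, ht, he⟩

/-- The sextet fixed by the centraliser. -/
noncomputable def invCentSextet : Finset (Finset GolayPt) := sextetOf (ptSet centTetrad)

lemma centTetrad_facts : popCnt centTetrad = 4 ∧ centTetrad < 2 ^ 24 := by decide +kernel

lemma centTetrad_card : (ptSet centTetrad).card = 4 := by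
  rw [card_ptSet, centTetrad_facts.1]

lemma invCentSextet_mem : invCentSextet ∈ sextets := sextetOf_mem centTetrad_card

theorem invCentSextet_fixed {σ : Equiv.Perm GolayPt} (hσ : σ ∈ invCentGrp) :
    σ • invCentSextet = invCentSextet := by
  obtain ⟨u, hu, hue⟩ := exists_centTrans (σ (pt 23))
  obtain ⟨hvu, huC, hufix⟩ := centTrans_spec hu
  have hfix : ∀ {t : ℕ}, validT t = true → mkPerm t ∈ M24 → sextFix t centTetrad = true →
      mkPerm t • invCentSextet = invCentSextet := fun hv hM h =>
    (sextFix_iff hv hM centTetrad_facts.2 centTetrad_card).1 h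
  have hτ : (mkPerm u)⁻¹ * σ ∈ invCentGrp := mul_mem (inv_mem huC) hσ
  have hst : (mkPerm u)⁻¹ * σ ∈ stabGrp [] (0 ||| 2 ^ 23) := by
    rw [stabGrp_or [] 0 (by norm_num), stabGrp_nil_zero]
    exact ⟨(mem_invCentGrp.1 hτ).1, by
      show ((mkPerm u)⁻¹ * σ) (pt 23) = pt 23
      rw [Equiv.Perm.mul_apply, Equiv.Perm.inv_def, Equiv.symm_apply_eq, hue]⟩
  obtain ⟨t, ht, hvt, he⟩ := mem_relList invRep0_valid invRep0_valid point_chain hst
    (mem_invCentGrp.1 hτ).2
  have hst' := (relList_sound invRep0_valid invRep0_valid point_chain ht).2.1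
  have hσeq : σ = mkPerm u * mkPerm t := by rw [he, mul_inv_cancel_left]
  rw [hσeq, mul_smul, hfix hvt hst'.1 (List.all_eq_true.1 invCentStab_facts.2 t ht),
    hfix hvu (mem_invCentGrp.1 huC).1 hufix]

end Cfsg.Agent.H94.M24
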