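import Cfsg.Agent.H94.M24.TrioCheck
import Cfsg.Agent.Golay.OctadCount
import Cfsg.Agent.Golay.Table
import Cfsg.Prelude.Def_SporadicCombinatorics

/-!
Sextets and trios, and counting those fixed by a given table.
-/

set_option autoImplicit false

namespace Cfsg.Agent.H94.M24

open Cfsg Cfsg.Agent.Golay
open scoped Pointwise

lemma smul_ptSet_eq_iff {T : ℕ} (hT : validT T = true) {m n : ℕ} (hn : n < 2 ^ 24) :
    mkPerm T • ptSet m = ptSet n ↔ tblImg T m = n := by
  rw [← ptSet_tblImg hT]
  exact ⟨ptSet_injOn (tblImg_lt hT m) hn, fun h => by rw [h]⟩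

/-! ### Octads and dodecads -/

theorem ncard_octads_fixed {T : ℕ} (hT : validT T = true) :
    {o : Finset GolayPt | o ∈ octads ∧ mkPerm T • o = o}.ncard
      = (octadList.filter fun m => tblImg T m == m).length := by
  rw [← ncard_ptSet_image (octadList_nodup.filter _)
    fun m hm => octadList_lt (List.mem_of_mem_filter hm)]
  congr 1
  ext o
  simp only [Set.mem_ofPred_eq, Set.mem_image, List.mem_filter, beq_iff_eq]
  constructor
  · rintro ⟨ho, hfix⟩
    refine ⟨maskOf o, ⟨mem_octads_iff.1 ho, ?_⟩, ptSet_maskOf o⟩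
    rw [← smul_ptSet_eq_iff hT (maskOf_lt o), ptSet_maskOf, hfix]
  · rintro ⟨m, ⟨hm, h⟩, rfl⟩
    exact ⟨ptSet_mem_octads hm, (smul_ptSet_eq_iff hT (octadList_lt hm)).2 h⟩

lemma wordList_nodup (k : ℕ) : (wordList k).Nodup := codeList_nodup.filter _

theorem ncard_dodecads_fixed {T : ℕ} (hT : validT T = true) :
    {d : Finset GolayPt | d ∈ dodecads ∧ mkPerm T • d = d}.ncard
      = ((wordList 12).filter fun m => tblImg T m == m).length := by
  rw [← ncard_ptSet_image ((wordList_nodup 12).filter _)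
    fun m hm => codeList_lt (mem_wordList.1 (List.mem_of_mem_filter hm)).1]
  congr 1
  ext d
  simp only [Set.mem_ofPred_eq, Set.mem_image, List.mem_filter, beq_iff_eq]
  constructor
  · rintro ⟨hd, hfix⟩
    refine ⟨maskOf d, ⟨mem_wordsOfWeight_iff.1 hd, ?_⟩, ptSet_maskOf d⟩
    rw [← smul_ptSet_eq_iff hT (maskOf_lt d), ptSet_maskOf, hfix]
  · rintro ⟨m, ⟨hm, h⟩, rfl⟩
    refine ⟨?_, (smul_ptSet_eq_iff hT (codeList_lt (mem_wordList.1 hm).1)).2 h⟩
    unfold dodecads
    rw [wordsOfWeight_eq]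
    exact ⟨m, hm, rfl⟩

/-! ### Trios -/

/-- The third octad of a trio. -/
def third (a b : ℕ) : ℕ := fullMask ^^^ (a ||| b)

/-- The trio of two disjoint octad masks. -/
def trioOf (a b : ℕ) : Finset (Finset GolayPt) := {ptSet a, ptSet b, ptSet (third a b)}

lemma third_lt {a b : ℕ} (ha : a < 2 ^ 24) (hb : b < 2 ^ 24) : third a b < 2 ^ 24 :=
  Nat.xor_lt_two_pow (by norm_num [fullMask]) (Nat.or_lt_two_pow ha hb)

lemma ptSet_third {o o' o'' : Finset GolayPt} (h1 : o ∈ octads) (h2 : o' ∈ octads)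
    (h3 : o'' ∈ octads) (d12 : Disjoint o o') (d13 : Disjoint o o'') (d23 : Disjoint o' o'') :
    maskOf o'' = third (maskOf o) (maskOf o') := by
  refine ptSet_injOn (maskOf_lt _) (third_lt (maskOf_lt _) (maskOf_lt _)) ?_
  rw [third, ptSet_compl, ptSet_or, ptSet_maskOf, ptSet_maskOf, ptSet_maskOf]
  refine Finset.eq_of_subset_of_card_le (fun p hp => ?_) ?_
  · rw [Finset.mem_compl, Finset.mem_union]
    rintro (h | h)
    · exact Finset.disjoint_left.1 d13 h hp
    · exact Finset.disjoint_left.1 d23 h hp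
  · rw [Finset.card_compl, Finset.card_union_of_disjoint d12, h1.2, h2.2, h3.2]
    decide

lemma and_eq_zero_iff_disjoint {a b : ℕ} (ha : a < 2 ^ 24) :
    a &&& b = 0 ↔ Disjoint (ptSet a) (ptSet b) := by
  rw [Finset.disjoint_iff_inter_eq_empty, ← ptSet_and, ← ptSet_zero]
  exact ⟨fun h => by rw [h], ptSet_injOn (and_lt_full ha) (by norm_num)⟩

lemma mem_trioList {a : ℕ} {bs : List ℕ} (h : (a, bs) ∈ trioList) :
    a ∈ octadList ∧ ∀ b, b ∈ bs ↔
      b ∈ octadList ∧ (a &&& b = 0 ∧ a < b) ∧ b < third a b :=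
  trioList_mem h

lemma exists_trioList_of_sorted {o o' o'' : Finset GolayPt} (h1 : o ∈ octads) (h2 : o' ∈ octads)
    (h3 : o'' ∈ octads) (d12 : Disjoint o o') (d13 : Disjoint o o'') (d23 : Disjoint o' o'')
    (l1 : maskOf o < maskOf o') (l2 : maskOf o' < maskOf o'') :
    ∃ r ∈ trioList, r.1 = maskOf o ∧ maskOf o' ∈ r.2 ∧
      ({o, o', o''} : Finset (Finset GolayPt)) = trioOf (maskOf o) (maskOf o') := by
  have hr : ∃ bs, (maskOf o, bs) ∈ trioList := exists_trioList (mem_octads_iff.1 h1)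
  obtain ⟨bs, hbs⟩ := hr
  have h3' := ptSet_third h1 h2 h3 d12 d13 d23
  refine ⟨_, hbs, rfl, ((mem_trioList hbs).2 _).2
    ⟨mem_octads_iff.1 h2, ⟨?_, l1⟩, h3' ▸ l2⟩, ?_⟩
  · rw [and_eq_zero_iff_disjoint (maskOf_lt o), ptSet_maskOf, ptSet_maskOf]
    exact d12
  · rw [trioOf, ← h3', ptSet_maskOf, ptSet_maskOf, ptSet_maskOf]

lemma mem_trios_iff {X : Finset (Finset GolayPt)} :
    X ∈ trios ↔ ∃ r ∈ trioList, ∃ b ∈ r.2, X = trioOf r.1 b := by
  constructor
  · rintro ⟨hc, ho, hd⟩
    obtain ⟨x, y, z, hxy, hxz, hyz, rfl⟩ := Finset.card_eq_three.1 hc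
    have hx := ho x (by simp)
    have hy := ho y (by simp)
    have hz := ho z (by simp)
    have dxy := hd x (by simp) y (by simp) hxy
    have dxz := hd x (by simp) z (by simp) hxz
    have dyz := hd y (by simp) z (by simp) hyz
    have key : ∀ o o' o'' : Finset GolayPt, ({x, y, z} : Finset (Finset GolayPt)) = {o, o', o''} →
        (∃ r ∈ trioList, r.1 = maskOf o ∧ maskOf o' ∈ r.2 ∧
          ({o, o', o''} : Finset (Finset GolayPt)) = trioOf (maskOf o) (maskOf o')) →
        ∃ r ∈ trioList, ∃ b ∈ r.2, ({x, y, z} : Finset (Finset GolayPt)) = trioOf r.1 b := by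
      rintro o o' o'' e ⟨r, hr, h1, h2, h3⟩
      exact ⟨r, hr, maskOf o', h2, by rw [e, h3, h1]⟩
    rcases lt_or_gt_of_ne (fun h => hxy (maskOf_injective h)) with a | a <;>
      rcases lt_or_gt_of_ne (fun h => hxz (maskOf_injective h)) with b | b <;>
      rcases lt_or_gt_of_ne (fun h => hyz (maskOf_injective h)) with c | c
    · exact key x y z rfl (exists_trioList_of_sorted hx hy hz dxy dxz dyz a c)
    · exact key x z y (by ext; simp; tauto)
        (exists_trioList_of_sorted hx hz hy dxz dxy dyz.symm b c)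
    · omega
    · exact key z x y (by ext; simp; tauto)
        (exists_trioList_of_sorted hz hx hy dxz.symm dyz.symm dxy b a)
    · exact key y x z (by ext; simp; tauto)
        (exists_trioList_of_sorted hy hx hz dxy.symm dyz dxz a b)
    · omega
    · exact key y z x (by ext; simp; tauto)
        (exists_trioList_of_sorted hy hz hx dyz dxy.symm dxz.symm c b)
    · exact key z y x (by ext; simp; tauto)
        (exists_trioList_of_sorted hz hy hx dyz.symm dxz.symm dxy.symm c a)
  · rintro ⟨⟨a, bs⟩, hr, b, hb, rfl⟩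
    obtain ⟨ha, hiff⟩ := mem_trioList hr
    obtain ⟨hb', ⟨hab, l1⟩, l2⟩ := (hiff b).1 hb
    have la := octadList_lt ha
    have lb := octadList_lt hb'
    have dab : Disjoint (ptSet a) (ptSet b) := (and_eq_zero_iff_disjoint la).1 hab
    have hthird : ptSet (third a b) = (ptSet a ∪ ptSet b)ᶜ := by
      rw [third, ptSet_compl, ptSet_or]
    have dac : Disjoint (ptSet a) (ptSet (third a b)) := by
      rw [hthird]
      exact Finset.disjoint_left.2 fun p hp h => by simp [hp] at h
    have dbc : Disjoint (ptSet b) (ptSet (third a b)) := by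
      rw [hthird]
      exact Finset.disjoint_left.2 fun p hp h => by simp [hp] at h
    have hco : ptSet (third a b) ∈ octads := by
      refine ⟨?_, ?_⟩
      · rw [third, ptSet_xor, ptSet_or]
        have hu : ptSet a ∪ ptSet b = symmDiff (ptSet a) (ptSet b) := by
          ext p
          simp only [Finset.mem_union, Finset.mem_symmDiff]
          have : p ∈ ptSet a → p ∉ ptSet b := fun h => Finset.disjoint_left.1 dab h
          tauto
        rw [hu]
        refine symmDiff_mem_supports ((ptSet_mem_supports_iff (by norm_num [fullMask])).2 ?_)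
          (symmDiff_mem_supports (ptSet_mem_octads ha).1 (ptSet_mem_octads hb').1)
        exact inCode_iff.1 (by decide +kernel)
      · rw [hthird, Finset.card_compl, Finset.card_union_of_disjoint dab,
          (ptSet_mem_octads ha).2, (ptSet_mem_octads hb').2]
        decide
    have n1 : ptSet a ≠ ptSet b := fun h => l1.ne (ptSet_injOn la lb h)
    have n2 : ptSet a ≠ ptSet (third a b) := fun h =>
      (l1.trans l2).ne (ptSet_injOn la (third_lt la lb) h)
    have n3 : ptSet b ≠ ptSet (third a b) := fun h =>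
      l2.ne (ptSet_injOn lb (third_lt la lb) h)
    have ha' := ptSet_mem_octads ha
    have hb'' := ptSet_mem_octads hb'
    refine ⟨?_, ?_, ?_⟩
    · exact Finset.card_eq_three.2 ⟨_, _, _, n1, n2, n3, rfl⟩
    · intro o ho
      simp only [trioOf, Finset.mem_insert, Finset.mem_singleton] at ho
      rcases ho with rfl | rfl | rfl
      exacts [ha', hb'', hco]
    · intro o ho o' ho'
      simp only [trioOf, Finset.mem_insert, Finset.mem_singleton] at ho ho'
      rcases ho with rfl | rfl | rfl <;> rcases ho' with rfl | rfl | rfl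
      exacts [fun h => absurd rfl h, fun _ => dab, fun _ => dac, fun _ => dab.symm,
        fun h => absurd rfl h, fun _ => dbc, fun _ => dac.symm, fun _ => dbc.symm,
        fun h => absurd rfl h]

lemma smul_mem_trios {σ : Equiv.Perm GolayPt} (hσ : σ ∈ M24) {X : Finset (Finset GolayPt)}
    (h : X ∈ trios) : σ • X ∈ trios := by
  obtain ⟨hc, ho, hd⟩ := h
  refine ⟨by rw [Finset.card_smul_finset, hc], fun o h => ?_, fun o h o' h' hne => ?_⟩
  · obtain ⟨x, hx, rfl⟩ := Finset.mem_smul_finset.1 h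
    exact smul_mem_octads hσ (ho x hx)
  · obtain ⟨x, hx, rfl⟩ := Finset.mem_smul_finset.1 h
    obtain ⟨y, hy, rfl⟩ := Finset.mem_smul_finset.1 h'
    have := hd x hx y hy fun e => hne (by rw [e])
    refine Finset.disjoint_left.2 fun p hp hp' => ?_
    rw [mem_smul_finset_iff] at hp hp'
    exact Finset.disjoint_left.1 this hp hp'

/-- The table maps the trio of `a`, `b` to itself. -/
def trioFix (T a b : ℕ) : Bool :=
  [a, b, third a b].contains (tblImg T a) && [a, b, third a b].contains (tblImg T b) &&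
    [a, b, third a b].contains (tblImg T (third a b))

lemma trioFix_iff {T a b : ℕ} (hT : validT T = true) (ha : a < 2 ^ 24) (hb : b < 2 ^ 24) :
    trioFix T a b = true ↔ mkPerm T • trioOf a b = trioOf a b := by
  have hc := third_lt ha hb
  have key : ∀ m : ℕ, [a, b, third a b].contains (tblImg T m) = true ↔
      mkPerm T • ptSet m ∈ trioOf a b := by
    intro m
    simp only [trioOf, List.contains_iff_mem, List.mem_cons, List.not_mem_nil, or_false,
      Finset.mem_insert, Finset.mem_singleton, smul_ptSet_eq_iff hT ha, smul_ptSet_eq_iff hT hb,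
      smul_ptSet_eq_iff hT hc]
  simp only [trioFix, Bool.and_eq_true, key]
  constructor
  · intro h
    refine Finset.eq_of_subset_of_card_le ?_ (by rw [Finset.card_smul_finset])
    intro x hx
    obtain ⟨y, hy, rfl⟩ := Finset.mem_smul_finset.1 hx
    simp only [trioOf, Finset.mem_insert, Finset.mem_singleton] at hy
    rcases hy with rfl | rfl | rfl
    exacts [h.1.1, h.1.2, h.2]
  · intro h
    have hm : ∀ y ∈ trioOf a b, mkPerm T • y ∈ trioOf a b := fun y hy =>
      h ▸ Finset.smul_mem_smul_finset hy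
    exact ⟨⟨hm _ (by simp [trioOf]), hm _ (by simp [trioOf])⟩, hm _ (by simp [trioOf])⟩

/-- The sorted pairs of the trios fixed by a table. -/
def fixedTrios (T : ℕ) : List (ℕ × ℕ) :=
  trioList.flatMap fun r => (r.2.filter (trioFix T r.1)).map (Prod.mk r.1)

theorem ncard_trios_fixed {T : ℕ} (hT : validT T = true) :
    {X : Finset (Finset GolayPt) | X ∈ trios ∧ mkPerm T • X = X}.ncard
      = (fixedTrios T).toFinset.card := by
  have hp : ∀ p ∈ fixedTrios T, ∃ bs, (p.1, bs) ∈ trioList ∧ p.2 ∈ bs ∧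
      trioFix T p.1 p.2 = true := by
    intro p hp
    simp only [fixedTrios, List.mem_flatMap, List.mem_map, List.mem_filter] at hp
    obtain ⟨⟨a, bs⟩, hr, b, ⟨hb, hfix⟩, rfl⟩ := hp
    exact ⟨bs, hr, hb, hfix⟩
  rw [← Set.ncard_coe_finset]
  refine (Set.ncard_congr (fun p _ => trioOf p.1 p.2) ?_ ?_ ?_).symm
  · intro p hpm
    rw [Finset.mem_coe, List.mem_toFinset] at hpm
    obtain ⟨bs, hr, hb, hfix⟩ := hp p hpm
    obtain ⟨ha, hiff⟩ := mem_trioList hr
    exact ⟨mem_trios_iff.2 ⟨_, hr, _, hb, rfl⟩,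
      (trioFix_iff hT (octadList_lt ha) (octadList_lt ((hiff _).1 hb).1)).1 hfix⟩
  · intro p q hpm hqm h
    rw [Finset.mem_coe, List.mem_toFinset] at hpm hqm
    obtain ⟨bs, hr, hb, -⟩ := hp p hpm
    obtain ⟨bs', hr', hb', -⟩ := hp q hqm
    obtain ⟨ha, hiff⟩ := mem_trioList hr
    obtain ⟨ha', hiff'⟩ := mem_trioList hr'
    obtain ⟨hbo, ⟨-, l1⟩, l2⟩ := (hiff _).1 hb
    obtain ⟨hbo', ⟨-, l1'⟩, l2'⟩ := (hiff' _).1 hb'
    have la := octadList_lt ha
    have lb := octadList_lt hbo
    have la' := octadList_lt ha'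
    have lb' := octadList_lt hbo'
    have e : ∀ m : ℕ, m < 2 ^ 24 → (ptSet m ∈ trioOf q.1 q.2 ↔
        (m = q.1 ∨ m = q.2 ∨ m = third q.1 q.2)) := by
      intro m hm
      simp only [trioOf, Finset.mem_insert, Finset.mem_singleton]
      constructor
      · rintro (h | h | h)
        exacts [.inl (ptSet_injOn hm la' h), .inr (.inl (ptSet_injOn hm lb' h)),
          .inr (.inr (ptSet_injOn hm (third_lt la' lb') h))]
      · rintro (rfl | rfl | rfl) <;> simp
    have h1 := (e _ la).1 (h ▸ by simp [trioOf])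
    have h2 := (e _ lb).1 (h ▸ by simp [trioOf])
    have h3 := (e _ (third_lt la lb)).1 (h ▸ by simp [trioOf])
    have h12 : p.1 = q.1 ∧ p.2 = q.2 := by omega
    exact Prod.ext h12.1 h12.2
  · rintro X ⟨hX, hfix⟩
    obtain ⟨r, hr, b, hb, rfl⟩ := mem_trios_iff.1 hX
    obtain ⟨ha, hiff⟩ := mem_trioList (a := r.1) (bs := r.2) hr
    refine ⟨(r.1, b), ?_, rfl⟩
    rw [Finset.mem_coe, List.mem_toFinset]
    simp only [fixedTrios, List.mem_flatMap, List.mem_map, List.mem_filter]
    exact ⟨r, hr, b, ⟨hb, (trioFix_iff hT (octadList_lt ha)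
      (octadList_lt ((hiff _).1 hb).1)).2 hfix⟩, rfl⟩

end Cfsg.Agent.H94.M24
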