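import Cfsg.Agent.H94.M24.Rel
import Cfsg.Agent.H94.M24.Design

/-!
The centraliser and normaliser of the representative of order 7.
-/

set_option autoImplicit false

namespace Cfsg.Agent.H94.M24

open Cfsg Cfsg.Agent.Golay
open scoped Pointwise

/-- Centraliser of the representative of order 7. -/
def sevCent : List ℕ := relList sevRep0 sevRep0 0 m24Chain

/-- Normaliser of the subgroup of the representative of order 7. -/
def sevNorm : List ℕ :=
  [1, 2, 3, 4, 5, 6].flatMap fun j => relList sevRep0 (powT j sevRep0) 0 m24Chain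

lemma sev_facts :
    inM24 sevRep0 = true ∧ tblEq sevRep0 idTblVal = false ∧
      tblEq (powT 7 sevRep0) idTblVal = true ∧ tblEq (powT 3 sevRep0) sevRep1 = true ∧
      validT sevRep1 = true := by
  decide +kernel

lemma sevCent_facts :
    sevCent.length = 42 := by
  decide +kernel

lemma sevNorm_facts :
    sevNorm.length = 126 ∧ sevNorm.Nodup ∧
      (sevNorm.all fun t => trioFix t sevTrioA sevTrioB) = true := by
  decide +kernel

lemma sevNc_facts :
    sevCent.contains sevNcA = true ∧ sevCent.contains sevNcB = true ∧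
      commB sevNcA sevNcB = false ∧
      (trioList.any fun r => r.1 == sevTrioA && r.2.contains sevTrioB) = true := by
  decide +kernel

theorem card_centralizer_sevRep :
    Nat.card {y : Equiv.Perm GolayPt // y ∈ M24 ∧ y * mkPerm sevRep0 = mkPerm sevRep0 * y}
      = 42 := by
  have hv := validT_of_inM24 sev_facts.1
  rw [← sevCent_facts]
  refine natCard_eq_length _ _ (relList_nodup root_chain) (fun t ht => ?_) fun σ hσ => ?_
  · obtain ⟨hc, hst, hrel⟩ := relList_sound hv hv root_chain ht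
    exact ⟨hc, hst.1, hrel⟩
  · obtain ⟨t, ht, -, he⟩ := mem_relList hv hv root_chain (stabGrp_nil_zero ▸ hσ.1) hσ.2
    exact ⟨t, ht, he⟩

theorem card_normalizer_sevRep :
    Nat.card {y : Equiv.Perm GolayPt //
      y ∈ M24 ∧ ∃ j ∈ [1, 2, 3, 4, 5, 6], y * mkPerm sevRep0 = mkPerm sevRep0 ^ j * y} = 126 := by
  have hv := validT_of_inM24 sev_facts.1
  rw [← sevNorm_facts.1]
  refine natCard_eq_length _ _ sevNorm_facts.2.1 (fun t ht => ?_) fun σ ⟨hσ, j, hj, he⟩ => ?_
  · obtain ⟨j, hj, htj⟩ := List.mem_flatMap.1 ht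
    obtain ⟨hvj, hpj⟩ := powT_spec hv j
    obtain ⟨hc, hst, hrel⟩ := relList_sound hv hvj root_chain htj
    rw [hpj] at hrel
    exact ⟨hc, hst.1, j, hj, hrel⟩
  · obtain ⟨hvj, hpj⟩ := powT_spec hv j
    obtain ⟨t, ht, -, hte⟩ := mem_relList hv hvj root_chain (stabGrp_nil_zero ▸ hσ)
      (by rw [hpj]; exact he)
    exact ⟨t, List.mem_flatMap.2 ⟨j, hj, ht⟩, hte⟩

/-- The trio fixed by the normaliser. -/
def sevTrio : Finset (Finset GolayPt) := trioOf sevTrioA sevTrioB

lemma sevTrio_mem : sevTrio ∈ trios := by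
  obtain ⟨r, hr, h⟩ := List.any_eq_true.1 sevNc_facts.2.2.2
  rw [Bool.and_eq_true, beq_iff_eq, List.contains_iff_mem] at h
  exact mem_trios_iff.2 ⟨r, hr, sevTrioB, h.2, by rw [sevTrio, h.1]⟩

theorem sevTrio_fixed {y : Equiv.Perm GolayPt} (hy : y ∈ M24) {j : ℕ}
    (hj : j ∈ [1, 2, 3, 4, 5, 6]) (he : y * mkPerm sevRep0 = mkPerm sevRep0 ^ j * y) :
    y • sevTrio = sevTrio := by
  have hv := validT_of_inM24 sev_facts.1
  obtain ⟨hvj, hpj⟩ := powT_spec hv j
  obtain ⟨t, ht, hvt, hte⟩ := mem_relList hv hvj root_chain (stabGrp_nil_zero ▸ hy)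
    (by rw [hpj]; exact he)
  have hmem : t ∈ sevNorm := List.mem_flatMap.2 ⟨j, hj, ht⟩
  have := List.all_eq_true.1 sevNorm_facts.2.2 t hmem
  rw [← hte]
  obtain ⟨ha, hb⟩ : sevTrioA < 2 ^ 24 ∧ sevTrioB < 2 ^ 24 := by decide +kernel
  exact (trioFix_iff hvt ha hb).1 this

end Cfsg.Agent.H94.M24
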