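import Cfsg.Agent.H94.M24.Class
import Cfsg.Agent.Golay.Stabilisers
import Cfsg.Agent.Golay.CodeFacts
import Cfsg.Agent.Golay.OctadCount

/-!
The permutation module of the group of the code on words of length 24.
-/

set_option autoImplicit false

namespace Cfsg.Agent.H94.M24.PermModule

open Cfsg Cfsg.Agent.Golay
open scoped Pointwise

/-- The word of a set. -/
def ind (s : Finset GolayPt) : GolayPt → ZMod 2 := fun p => if p ∈ s then 1 else 0

/-- The translated word. -/
def act (σ : Equiv.Perm GolayPt) (w : GolayPt → ZMod 2) : GolayPt → ZMod 2 :=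
  fun p => w (σ.symm p)

lemma support₂_ind (s : Finset GolayPt) : support₂ (ind s) = s := by
  ext p
  rw [support₂, Finset.mem_filter, ind]
  split_ifs with h <;> simp [h]

lemma ind_support₂ (w : GolayPt → ZMod 2) : ind (support₂ w) = w :=
  support₂_injective (support₂_ind _)

lemma ind_symmDiff (s t : Finset GolayPt) : ind (symmDiff s t) = ind s + ind t := by
  apply support₂_injective
  rw [support₂_add, support₂_ind, support₂_ind, support₂_ind]

lemma act_ind (σ : Equiv.Perm GolayPt) (s : Finset GolayPt) : act σ (ind s) = ind (σ • s) := by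
  funext p
  simp only [act, ind, mem_smul_finset_iff]

lemma ind_empty : ind ∅ = 0 := by
  funext p; simp [ind]

lemma ind_mem_golayCode {s : Finset GolayPt} :
    ind s ∈ golayCode ↔ s ∈ supports (golayCode : Set (GolayPt → ZMod 2)) := by
  constructor
  · intro h
    exact ⟨_, h, support₂_ind s⟩
  · rintro ⟨w, hw, rfl⟩
    rw [ind_support₂]; exact hw

lemma sum_eq_card (w : GolayPt → ZMod 2) : ∑ p, w p = ((support₂ w).card : ZMod 2) := by
  rw [support₂, Finset.card_filter, Nat.cast_sum]
  refine Finset.sum_congr rfl fun p _ => ?_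
  generalize w p = x
  revert x
  decide

/-! ### Covering radius four -/

theorem exists_decomp : ∀ s : Finset GolayPt,
    ∃ t : Finset GolayPt, t.card ≤ 4 ∧
      symmDiff s t ∈ supports (golayCode : Set (GolayPt → ZMod 2)) := by
  intro s
  induction hn : s.card using Nat.strong_induction_on generalizing s with
  | _ n ih =>
    by_cases h4 : s.card ≤ 4
    · refine ⟨s, h4, ?_⟩
      rw [symmDiff_self, ← ind_mem_golayCode]
      exact (ind_empty ▸ golayCode.zero_mem :)
    · obtain ⟨f, hfs, hf5⟩ := Finset.exists_subset_card_eq (show 5 ≤ s.card by omega)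
      obtain ⟨o, ⟨ho, hfo⟩, -⟩ := octads_isSteinerSystem.2 f hf5
      have h5 : 5 ≤ (s ∩ o).card := hf5 ▸ Finset.card_le_card (Finset.subset_inter hfs hfo)
      have hlt : (symmDiff s o).card < n := by
        have := card_symmDiff_add (s := s) (t := o)
        have := ho.2
        omega
      obtain ⟨t, ht, hc⟩ := ih _ hlt (symmDiff s o) rfl
      refine ⟨t, ht, ?_⟩
      have : symmDiff s t = symmDiff (symmDiff (symmDiff s o) t) o := by
        rw [symmDiff_right_comm s o t, symmDiff_assoc, symmDiff_self, symmDiff_bot]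
      rw [this]
      exact symmDiff_mem_supports hc ho.1

/-! ### Transitivity -/

lemma exists_move {L : List GolayPt} (hL : L.length ≤ 4) (hnd : L.Nodup) {p q : GolayPt}
    (hp : p ∉ L) (hq : q ∉ L) :
    ∃ σ ∈ M24, (∀ x ∈ L, (σ : Equiv.Perm GolayPt) x = x) ∧ σ p = q := by
  obtain ⟨k, hk, he⟩ := exists_map_list (l := p :: L) (l' := q :: L) rfl
    (by simp only [List.length_cons]; omega) (List.nodup_cons.2 ⟨hp, hnd⟩)
    (List.nodup_cons.2 ⟨hq, hnd⟩)
  simp only [List.map_cons, List.cons.injEq] at he
  refine ⟨k, hk, fun x hx => ?_, he.1⟩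
  obtain ⟨i, hi, rfl⟩ := List.getElem_of_mem hx
  have h := List.getElem_of_eq he.2 (show i < (L.map _).length by simpa using hi)
  rwa [List.getElem_map] at h

lemma smul_eq_self_of_fix {σ : Equiv.Perm GolayPt} {s : Finset GolayPt}
    (h : ∀ x ∈ s, σ x = x) : σ • s = s :=
  smul_eq_of_image (fun x hx => by rw [h x hx]; exact hx) le_rfl

/-- Tables fixing the base octad and one point outside it. -/
def outTables : List ℕ := [234573011994931612043733893644764899, 19984019110013899519015137704985719, 140746711372150042810247967219451429, 132708699844703246062656341043349678, 971350205232415406667062375291664561, 725894235857531846256268349328710725, 963672170552977711675932622813858881, 110595570938579831123320802203667633, 718250456249976405713286857698106530, 735131241918904338327068755944838880, 52599124557587604701442328966004919, 215954839478039842240748602446166071, 66575196145436630500148755168347874, 981887080479162378503162234778714286]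

lemma out_facts :
    (outTables.all fun u => inM24 u && tblImg u baseOctad == baseOctad && app u 4 == 4) = true ∧
    ((List.range 24).all fun q => baseOctad.testBit q || q == 4 || q == 6 ||
      outTables.any fun u => app u 6 == q) = true ∧
    ((List.range 24).all fun q => baseOctad.testBit q ||
      (lvlTrans m24Chain 6).any fun u => app u 4 == q) = true ∧
    ((lvlTrans m24Chain 6).all fun u => inM24 u && tblImg u baseOctad == baseOctad) = true ∧
    baseOctad.testBit 6 = false ∧ octadList.contains baseOctad = true := by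
  decide +kernel

/-- The stabiliser of a set moves a point of the part `P` to any other, fixing a third. -/
def TwoTrans (u P : Finset GolayPt) : Prop :=
  ∀ a ∈ P, ∀ b ∈ P, ∀ c ∈ P, b ≠ a → c ≠ a →
    ∃ σ ∈ M24, (σ : Equiv.Perm GolayPt) • u = u ∧ σ a = a ∧ σ b = c

lemma TwoTrans.conj {u P : Finset GolayPt} (h : TwoTrans u P) {k : Equiv.Perm GolayPt}
    (hk : k ∈ M24) : TwoTrans (k • u) (k • P) := by
  intro a ha b hb c hc hba hca
  rw [mem_smul_finset_iff] at ha hb hc
  obtain ⟨σ, hσ, hu, h1, h2⟩ := h _ ha _ hb _ hc (fun e => hba (k.symm.injective e))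
    (fun e => hca (k.symm.injective e))
  refine ⟨k * σ * k⁻¹, mul_mem (mul_mem hk hσ) (inv_mem hk), ?_, ?_, ?_⟩
  · rw [mul_smul, mul_smul, inv_smul_smul, hu]
  · rw [Equiv.Perm.mul_apply, Equiv.Perm.mul_apply, Equiv.Perm.inv_def, h1, Equiv.apply_symm_apply]
  · rw [Equiv.Perm.mul_apply, Equiv.Perm.mul_apply, Equiv.Perm.inv_def, h2, Equiv.apply_symm_apply]

lemma TwoTrans.compl {u P : Finset GolayPt} (h : TwoTrans u P) : TwoTrans uᶜ P := by
  intro a ha b hb c hc h1 h2
  obtain ⟨σ, hσ, hu, h3, h4⟩ := h a ha b hb c hc h1 h2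
  refine ⟨σ, hσ, ?_, h3, h4⟩
  ext x
  rw [mem_smul_finset_iff, Finset.mem_compl, Finset.mem_compl, ← mem_smul_finset_iff σ u, hu]

lemma baseOctad_twoTrans_out : TwoTrans (ptSet baseOctad) (ptSet baseOctad)ᶜ := by
  obtain ⟨h1, h2, h3, h4, h6, -⟩ := out_facts
  rw [List.all_eq_true] at h1 h2 h3 h4
  have hmem : ∀ a ∈ (ptSet baseOctad)ᶜ, baseOctad.testBit (idx a) = false := by
    intro a ha
    simpa using ha
  -- a point outside can be moved to position 4
  have hto4 : ∀ a ∈ (ptSet baseOctad)ᶜ, ∃ w ∈ M24,
      (w : Equiv.Perm GolayPt) • ptSet baseOctad = ptSet baseOctad ∧ w (pt 4) = a := by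
    intro a ha
    have := h3 (idx a) (List.mem_range.2 (idx_lt a))
    rw [hmem a ha, Bool.false_or, List.any_eq_true] at this
    obtain ⟨u, hu, he⟩ := this
    have hu' := h4 u hu
    simp only [Bool.and_eq_true, beq_iff_eq] at hu' he
    have hv := validT_of_inM24 hu'.1
    exact ⟨mkPerm u, mem_M24_of_inM24 hu'.1, by rw [← ptSet_tblImg hv, hu'.2],
      by rw [mkPerm_pt hv (by norm_num), he, pt_idx]⟩
  have hto6 : ∀ b ∈ (ptSet baseOctad)ᶜ, b ≠ pt 4 → ∃ w ∈ M24,
      (w : Equiv.Perm GolayPt) • ptSet baseOctad = ptSet baseOctad ∧ w (pt 4) = pt 4 ∧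
        w (pt 6) = b := by
    intro b hb hb4
    have := h2 (idx b) (List.mem_range.2 (idx_lt b))
    simp only [hmem b hb, Bool.false_or, Bool.or_eq_true, beq_iff_eq, List.any_eq_true] at this
    rcases this with (e | e) | ⟨u, hu, he⟩
    · exact absurd (by rw [← e, pt_idx]) hb4
    · exact ⟨1, one_mem _, one_smul _ _, rfl, by rw [Equiv.Perm.one_apply, ← e, pt_idx]⟩
    · have hu' := h1 u hu
      simp only [Bool.and_eq_true, beq_iff_eq] at hu'
      have hv := validT_of_inM24 hu'.1.1
      exact ⟨mkPerm u, mem_M24_of_inM24 hu'.1.1, by rw [← ptSet_tblImg hv, hu'.1.2],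
        by rw [mkPerm_pt hv (by norm_num), hu'.2],
        by rw [mkPerm_pt hv (by norm_num), he, pt_idx]⟩
  intro a ha b hb c hc hba hca
  obtain ⟨w, hw, hwo, hwa⟩ := hto4 a ha
  have hinv : ∀ x ∈ (ptSet baseOctad)ᶜ, x ≠ a →
      w.symm x ∈ (ptSet baseOctad)ᶜ ∧ w.symm x ≠ pt 4 := by
    intro x hx hxa
    refine ⟨?_, fun e => hxa (by rw [← hwa, ← e, Equiv.apply_symm_apply])⟩
    rw [Finset.mem_compl] at hx ⊢
    intro h
    apply hx
    rw [← hwo, mem_smul_finset_iff]
    exact h
  obtain ⟨s, hs, hso, hs4, hs6⟩ := hto6 _ (hinv b hb hba).1 (hinv b hb hba).2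
  obtain ⟨t, ht, hto, ht4, ht6⟩ := hto6 _ (hinv c hc hca).1 (hinv c hc hca).2
  refine ⟨w * t * s⁻¹ * w⁻¹, mul_mem (mul_mem (mul_mem hw ht) (inv_mem hs)) (inv_mem hw),
    ?_, ?_, ?_⟩
  · rw [mul_smul, mul_smul, mul_smul, inv_smul_eq_iff.2 hwo.symm, inv_smul_eq_iff.2 hso.symm, hto,
      hwo]
  · rw [← hwa]
    simp only [Equiv.Perm.mul_apply, Equiv.Perm.inv_def, Equiv.symm_apply_apply]
    rw [(Equiv.symm_apply_eq s).2 hs4.symm, ht4]
  · simp only [Equiv.Perm.mul_apply, Equiv.Perm.inv_def]
    rw [(Equiv.symm_apply_eq s).2 hs6.symm, ht6, Equiv.apply_symm_apply]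

theorem octad_twoTrans {o : Finset GolayPt} (ho : o ∈ octads) : TwoTrans o o ∧ TwoTrans o oᶜ := by
  refine ⟨fun a ha b hb c hc hba hca => ?_, ?_⟩
  · have hcard : 3 ≤ (((o.erase a).erase b).erase c).card := by
      have h8 := ho.2
      have := Finset.pred_card_le_card_erase (s := o) (a := a)
      have := Finset.pred_card_le_card_erase (s := o.erase a) (a := b)
      have := Finset.pred_card_le_card_erase (s := (o.erase a).erase b) (a := c)
      omega
    obtain ⟨f, hf, hf3⟩ := Finset.exists_subset_card_eq hcard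
    have hne : ∀ x ∈ f.toList, x ≠ c ∧ x ≠ b ∧ x ≠ a ∧ x ∈ o := by
      intro x hx
      have := hf (Finset.mem_toList.1 hx)
      simpa [Finset.mem_erase] using this
    obtain ⟨σ, hσ, hfix, hbc⟩ := exists_move (L := a :: f.toList)
      (by simp [hf3]) (List.nodup_cons.2 ⟨fun h => (hne a h).2.2.1 rfl, f.nodup_toList⟩)
      (p := b) (q := c)
      (by simp only [List.mem_cons, not_or]; exact ⟨hba, fun h => (hne b h).2.1 rfl⟩)
      (by simp only [List.mem_cons, not_or]; exact ⟨hca, fun h => (hne c h).1 rfl⟩)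
    refine ⟨σ, hσ, ?_, hfix a List.mem_cons_self, hbc⟩
    refine octad_eq_of_five (smul_mem_octads hσ ho) ho ?_
    have hcn : c ∉ insert a f := by
      rw [Finset.mem_insert, not_or]
      exact ⟨hca, fun h => (hne c (Finset.mem_toList.2 h)).1 rfl⟩
    have han : a ∉ f := fun h => (hne a (Finset.mem_toList.2 h)).2.2.1 rfl
    calc 5 = (insert c (insert a f)).card := by
          rw [Finset.card_insert_of_notMem hcn, Finset.card_insert_of_notMem han, hf3]
      _ ≤ _ := by
          refine Finset.card_le_card (Finset.insert_subset ?_ (Finset.insert_subset ?_ ?_))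
          · refine Finset.mem_inter.2 ⟨?_, hc⟩
            rw [← hbc]; exact Finset.smul_mem_smul_finset hb
          · refine Finset.mem_inter.2 ⟨?_, ha⟩
            rw [← hfix a List.mem_cons_self]; exact Finset.smul_mem_smul_finset ha
          · intro x hx
            have hxo := (hne x (Finset.mem_toList.2 hx)).2.2.2
            refine Finset.mem_inter.2 ⟨?_, hxo⟩
            rw [← hfix x (List.mem_cons_of_mem _ (Finset.mem_toList.2 hx))]
            exact Finset.smul_mem_smul_finset hxo
  · obtain ⟨g, hg⟩ := exists_M24_map_octad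
      (ptSet_mem_octads (List.contains_iff_mem.1 out_facts.2.2.2.2.2)) ho
    have := baseOctad_twoTrans_out.conj g.2
    rw [show (g : Equiv.Perm GolayPt) • (ptSet baseOctad)ᶜ = oᶜ from ?_,
      show (g : Equiv.Perm GolayPt) • ptSet baseOctad = o from hg] at this
    · exact this
    · ext x
      rw [mem_smul_finset_iff, Finset.mem_compl, Finset.mem_compl, ← mem_smul_finset_iff,
        show (g : Equiv.Perm GolayPt) • ptSet baseOctad = o from hg]

lemma compl_mem_supports {s : Finset GolayPt}
    (h : s ∈ supports (golayCode : Set (GolayPt → ZMod 2))) :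
    sᶜ ∈ supports (golayCode : Set (GolayPt → ZMod 2)) := by
  have huniv : (Finset.univ : Finset GolayPt) ∈ supports (golayCode : Set (GolayPt → ZMod 2)) := by
    rw [← ptSet_fullMask, ptSet_mem_supports_iff (by decide +kernel)]
    exact inCode_iff.1 (by decide +kernel)
  have := symmDiff_mem_supports huniv h
  rwa [show symmDiff Finset.univ s = sᶜ by ext; simp [Finset.mem_symmDiff]] at this

theorem dodecad_twoTrans {d : Finset GolayPt} (hd : d ∈ dodecads) :
    TwoTrans d d ∧ TwoTrans d dᶜ := by
  have key : ∀ e : Finset GolayPt, e ∈ dodecads → TwoTrans e e := by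
    intro e he a ha b hb c hc hba hca
    have hcard : 3 ≤ (((e.erase a).erase b).erase c).card := by
      have h8 := he.2
      have := Finset.pred_card_le_card_erase (s := e) (a := a)
      have := Finset.pred_card_le_card_erase (s := e.erase a) (a := b)
      have := Finset.pred_card_le_card_erase (s := (e.erase a).erase b) (a := c)
      omega
    obtain ⟨f, hf, hf3⟩ := Finset.exists_subset_card_eq hcard
    obtain ⟨z, hz, hze⟩ : ∃ z : Fin 3 → GolayPt, Function.Injective z ∧
        ∀ i, z i ∈ ((e.erase a).erase b).erase c :=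
      ⟨fun i => ((f.equivFinOfCardEq hf3).symm i).1,
        Subtype.val_injective.comp (Equiv.injective _), fun i => hf (Subtype.prop _)⟩
    simp only [Finset.mem_erase] at hze
    have hx : Function.Injective ![a, b, z 0, z 1, z 2] := by
      rw [← List.nodup_ofFn]
      simp [Ne.symm hba, Ne.symm (hze _).2.2.1, Ne.symm (hze _).2.1, hz.eq_iff]
    have hy : Function.Injective ![a, c, z 0, z 1, z 2] := by
      rw [← List.nodup_ofFn]
      simp [Ne.symm hca, Ne.symm (hze _).2.2.1, Ne.symm (hze _).1, hz.eq_iff]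
    obtain ⟨g, hg, -⟩ := dodecad_sharply_five_transitive he ⟨_, hx⟩ ⟨_, hy⟩
      (fun i => by fin_cases i <;> simp [ha, hb, (hze _).2.2.2])
      (fun i => by fin_cases i <;> simp [ha, hc, (hze _).2.2.2])
    exact ⟨_, (g : M24).2, g.2, hg 0, hg 1⟩
  refine ⟨key d hd, ?_⟩
  have hdc : dᶜ ∈ dodecads := ⟨compl_mem_supports hd.1, by
    rw [Finset.card_compl, hd.2]; decide⟩
  simpa using (key dᶜ hdc).compl

end Cfsg.Agent.H94.M24.PermModule
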