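import Cfsg.Agent.H94.M24.OrbitRigidData
import Cfsg.Agent.H94.M24.PermModule

/-!
Maps of the code modulo the all-ones word that are additive and preserve the orbits of the group
of the code come from that group.
-/

set_option autoImplicit false

namespace Cfsg.Agent.H94.M24.OrbitRigid

open Cfsg Cfsg.Agent.Golay Cfsg.Agent.H94.M24.PermModule
open scoped Pointwise

/-- Equal up to complement. -/
def Eqv (a b : Finset GolayPt) : Prop := a = b ∨ a = bᶜ

lemma Eqv.refl (a : Finset GolayPt) : Eqv a a := .inl rfl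

lemma Eqv.symm {a b : Finset GolayPt} (h : Eqv a b) : Eqv b a := by
  rcases h with rfl | rfl
  exacts [.inl rfl, .inr (compl_compl b).symm]

lemma Eqv.trans {a b c : Finset GolayPt} (h : Eqv a b) (h' : Eqv b c) : Eqv a c := by
  rcases h with rfl | rfl
  · exact h'
  · rcases h' with rfl | rfl
    exacts [.inr rfl, .inl (compl_compl c)]

lemma symmDiff_compl_right (a b : Finset GolayPt) : symmDiff a bᶜ = (symmDiff a b)ᶜ := by
  ext p; simp only [Finset.mem_symmDiff, Finset.mem_compl]; tauto

lemma symmDiff_compl_left (a b : Finset GolayPt) : symmDiff aᶜ b = (symmDiff a b)ᶜ := by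
  rw [symmDiff_comm, symmDiff_compl_right, symmDiff_comm]

lemma Eqv.symmDiff {a a' b b' : Finset GolayPt} (h : Eqv a a') (h' : Eqv b b') :
    Eqv (symmDiff a b) (symmDiff a' b') := by
  rcases h with rfl | rfl <;> rcases h' with rfl | rfl
  · exact .inl rfl
  · exact .inr (symmDiff_compl_right _ _)
  · exact .inr (symmDiff_compl_left _ _)
  · exact .inl (compl_symmDiff_compl _ _)

lemma smul_compl (σ : Equiv.Perm GolayPt) (s : Finset GolayPt) : σ • sᶜ = (σ • s)ᶜ := by
  ext p; simp [mem_smul_finset_iff]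

lemma Eqv.smul {a b : Finset GolayPt} (σ : Equiv.Perm GolayPt) (h : Eqv a b) :
    Eqv (σ • a) (σ • b) := by
  rcases h with rfl | rfl
  exacts [.inl rfl, .inr (smul_compl σ b)]

lemma Eqv.card {a b : Finset GolayPt} (h : Eqv a b) : a.card = b.card ∨ a.card + b.card = 24 := by
  rcases h with rfl | rfl
  · exact .inl rfl
  · refine .inr ?_
    rw [Finset.card_compl, show Fintype.card GolayPt = 24 from rfl]
    have : b.card ≤ 24 := b.card_le_univ
    omega

lemma eq_of_eqv_octads {a b : Finset GolayPt} (ha : a.card = 8) (hb : b.card = 8) (h : Eqv a b) :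
    a = b := by
  rcases h with rfl | rfl
  · rfl
  · rw [Finset.card_compl, hb, show Fintype.card GolayPt = 24 from rfl] at ha
    omega

/-- Additive and orbit preserving, modulo complementation. -/
structure Good (f : Finset GolayPt → Finset GolayPt) : Prop where
  add : ∀ c d, c ∈ supports (golayCode : Set (GolayPt → ZMod 2)) →
    d ∈ supports (golayCode : Set (GolayPt → ZMod 2)) →
    Eqv (f (symmDiff c d)) (symmDiff (f c) (f d))
  orbit : ∀ c, c ∈ supports (golayCode : Set (GolayPt → ZMod 2)) →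
    ∃ σ ∈ M24, Eqv (f c) ((σ : Equiv.Perm GolayPt) • c)

lemma Good.twist {f : Finset GolayPt → Finset GolayPt} (hf : Good f) {τ : Equiv.Perm GolayPt}
    (hτ : τ ∈ M24) : Good fun c => τ • f c where
  add c d hc hd := by rw [← Finset.smul_finset_symmDiff]; exact (hf.add c d hc hd).smul τ
  orbit c hc := by
    obtain ⟨σ, hσ, h⟩ := hf.orbit c hc
    exact ⟨τ * σ, mul_mem hτ hσ, by rw [mul_smul]; exact h.smul τ⟩

variable {f : Finset GolayPt → Finset GolayPt}

lemma Good.octad (hf : Good f) {o : Finset GolayPt} (ho : o ∈ octads) :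
    ∃ o' ∈ octads, Eqv (f o) o' := by
  obtain ⟨σ, hσ, h⟩ := hf.orbit o ho.1
  exact ⟨_, smul_mem_octads hσ ho, h⟩

lemma Good.eq_of_eqv (hf : Good f) {o q : Finset GolayPt} (ho : o ∈ octads) (hq : q ∈ octads)
    (h : Eqv (f o) (f q)) : o = q := by
  obtain ⟨σ, -, hσ⟩ := hf.orbit _ (symmDiff_mem_supports ho.1 hq.1)
  have h1 : Eqv ((σ : Equiv.Perm GolayPt) • symmDiff o q) ∅ := by
    refine (hσ.symm.trans (hf.add o q ho.1 hq.1)).trans ?_
    have := h.symmDiff (Eqv.refl (f q))
    rwa [symmDiff_self, Finset.bot_eq_empty] at this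
  have h2 := h1.card
  rw [Finset.card_smul_finset, Finset.card_empty] at h2
  have := card_symmDiff_add (s := o) (t := q)
  rw [ho.2, hq.2] at this
  have hz : (symmDiff o q).card = 0 := by omega
  exact symmDiff_eq_bot.1 (Finset.card_eq_zero.1 hz)

/-- Two octads meeting in four points and their sum all meet some octad in two points each. -/
def Witness (o q : Finset GolayPt) : Prop :=
  ∃ p ∈ octads, (p ∩ o).card = 2 ∧ (p ∩ q).card = 2 ∧ (p ∩ symmDiff o q).card = 2

lemma witness_check :
    (octadList.all fun q => !(popCnt (firstOct &&& q) == 4) ||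
      octadList.any fun p => popCnt (p &&& firstOct) == 2 && popCnt (p &&& q) == 2 &&
        popCnt (p &&& (firstOct ^^^ q)) == 2) = true ∧ octadList.contains firstOct = true := by
  decide +kernel

lemma exists_witness {o q : Finset GolayPt} (ho : o ∈ octads) (hq : q ∈ octads)
    (h : (o ∩ q).card = 4) : Witness o q := by
  obtain ⟨g, hg⟩ := exists_M24_map_octad ho
    (ptSet_mem_octads (List.contains_iff_mem.1 witness_check.2))
  have hg' : (g : Equiv.Perm GolayPt) • o = ptSet firstOct := hg
  have hgq := smul_mem_octads g.2 hq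
  have hm := List.all_eq_true.1 witness_check.1 _ (mem_octads_iff.1 hgq)
  have h4 : popCnt (firstOct &&& maskOf ((g : Equiv.Perm GolayPt) • q)) = 4 := by
    rw [← card_ptSet, ptSet_and, ptSet_maskOf, ← hg', ← Finset.smul_finset_inter,
      Finset.card_smul_finset, h]
  simp only [h4, beq_self_eq_true, Bool.not_true, Bool.false_or, List.any_eq_true,
    Bool.and_eq_true, beq_iff_eq] at hm
  obtain ⟨p, hp, ⟨h1, h2⟩, h3⟩ := hm
  rw [← card_ptSet, ptSet_and] at h1 h2 h3
  rw [ptSet_maskOf] at h2
  rw [ptSet_xor, ptSet_maskOf] at h3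
  rw [← hg'] at h1 h3
  refine ⟨(g : Equiv.Perm GolayPt)⁻¹ • ptSet p,
    smul_mem_octads (inv_mem g.2) (ptSet_mem_octads hp), ?_⟩
  have key : ∀ s : Finset GolayPt, (((g : Equiv.Perm GolayPt)⁻¹ • ptSet p) ∩ s).card
      = (ptSet p ∩ (g : Equiv.Perm GolayPt) • s).card := by
    intro s
    rw [← Finset.card_smul_finset (g : Equiv.Perm GolayPt), Finset.smul_finset_inter,
      smul_inv_smul]
  rw [key, key, key, Finset.smul_finset_symmDiff]
  exact ⟨h1, h2, h3⟩

lemma not_witness_of_disjoint {o q : Finset GolayPt} (ho : o.card = 8) (hq : q.card = 8)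
    (hd : (o ∩ q).card = 0) {r : Finset GolayPt} (hr : Eqv r (symmDiff o q)) (hr8 : r.card = 8)
    {p : Finset GolayPt} (hp : p.card = 8) :
    ¬((p ∩ o).card = 2 ∧ (p ∩ q).card = 2 ∧ (p ∩ r).card = 2) := by
  rintro ⟨h1, h2, h3⟩
  have hdis : Disjoint o q := Finset.disjoint_iff_inter_eq_empty.2 (Finset.card_eq_zero.1 hd)
  have hsd : symmDiff o q = o ∪ q := by
    ext x
    simp only [Finset.mem_symmDiff, Finset.mem_union]
    have : x ∈ o → x ∉ q := fun h => Finset.disjoint_left.1 hdis h
    tauto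
  have hrc : r = (o ∪ q)ᶜ := by
    rcases hr with e | e
    · rw [e, hsd, Finset.card_union_of_disjoint hdis, ho, hq] at hr8; omega
    · rw [e, hsd]
  have hsub : p ⊆ (p ∩ o) ∪ (p ∩ q) ∪ (p ∩ r) := fun x hx => by
    simp only [hrc, Finset.mem_union, Finset.mem_inter, Finset.mem_compl]
    tauto
  have h' := (Finset.card_le_card hsub).trans ((Finset.card_union_le _ _).trans
    (Nat.add_le_add_right (Finset.card_union_le _ _) _))
  omega

lemma card_inter_cases {o q : Finset GolayPt} (ho : o ∈ octads) (hq : q ∈ octads) :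
    (o ∩ q).card = 0 ∨ (o ∩ q).card = 2 ∨ (o ∩ q).card = 4 ∨ (o ∩ q).card = 8 := by
  have h := card_symmDiff_add (s := o) (t := q)
  rw [ho.2, hq.2] at h
  rcases card_mem_supports (symmDiff_mem_supports ho.1 hq.1) with h' | h' | h' | h' | h' <;> omega

/-- An orbit-preserving additive map preserves intersection sizes of octads. -/
theorem Good.card_inter (hf : Good f) {o q o' q' : Finset GolayPt} (ho : o ∈ octads)
    (hq : q ∈ octads) (ho' : o' ∈ octads) (hq' : q' ∈ octads) (h1 : Eqv (f o) o')
    (h2 : Eqv (f q) q') : (o' ∩ q').card = (o ∩ q).card := by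
  by_cases hne : o = q
  · subst hne
    rw [eq_of_eqv_octads ho'.2 hq'.2 (h1.symm.trans h2), Finset.inter_self, Finset.inter_self,
      hq'.2, ho.2]
  have hne' : o' ≠ q' := fun e => hne (hf.eq_of_eqv ho hq ((e ▸ h1).trans h2.symm))
  have h8 : ∀ a b : Finset GolayPt, a ∈ octads → b ∈ octads → a ≠ b → (a ∩ b).card ≠ 8 := by
    intro a b ha hb hab e
    have e1 : a ∩ b = a := Finset.eq_of_subset_of_card_le Finset.inter_subset_left (by rw [e, ha.2])
    have e2 : a ∩ b = b := Finset.eq_of_subset_of_card_le Finset.inter_subset_right (by rw [e, hb.2])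
    exact hab (e1.symm.trans e2)
  -- sums
  have hsum : Eqv (f (symmDiff o q)) (symmDiff o' q') :=
    (hf.add o q ho.1 hq.1).trans (h1.symmDiff h2)
  obtain ⟨σ, hσ, hσe⟩ := hf.orbit _ (symmDiff_mem_supports ho.1 hq.1)
  have hc := (hσe.symm.trans hsum).card
  rw [Finset.card_smul_finset] at hc
  have e1 := card_symmDiff_add (s := o) (t := q)
  have e2 := card_symmDiff_add (s := o') (t := q')
  rw [ho.2, hq.2] at e1
  rw [ho'.2, hq'.2] at e2
  -- a witness for one side excludes disjointness on the other side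
  have hz : (o ∩ q).card = 4 → (o' ∩ q').card = 0 → False := by
    intro h4 h0
    obtain ⟨p, hp, w1, w2, w3⟩ := exists_witness ho hq h4
    have hr : symmDiff o q ∈ octads := ⟨symmDiff_mem_supports ho.1 hq.1, by omega⟩
    obtain ⟨p', hp', hfp⟩ := hf.octad hp
    have two : ∀ a a' : Finset GolayPt, a ∈ octads → a' ∈ octads → Eqv (f a) a' →
        (p ∩ a).card = 2 → (p' ∩ a').card = 2 := by
      intro a a' ha ha' hfa hpa
      obtain ⟨σ', hσ', hσ'e⟩ := hf.orbit _ (symmDiff_mem_supports hp.1 ha.1)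
      have hc' := ((hσ'e.symm.trans ((hf.add p a hp.1 ha.1).trans (hfp.symmDiff hfa)))).card
      rw [Finset.card_smul_finset] at hc'
      have i1 := card_symmDiff_add (s := p) (t := a)
      have i2 := card_symmDiff_add (s := p') (t := a')
      rw [hp.2, ha.2] at i1
      rw [hp'.2, ha'.2] at i2
      omega
    obtain ⟨r', hr', hfr⟩ := hf.octad hr
    exact not_witness_of_disjoint ho'.2 hq'.2 h0
      (hfr.symm.trans hsum) hr'.2 hp'.2
      ⟨two o o' ho ho' h1 w1, two q q' hq hq' h2 w2, two _ r' hr hr' hfr w3⟩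
  have hz' : (o' ∩ q').card = 4 → (o ∩ q).card = 0 → False := by
    intro h4 h0
    obtain ⟨p', hp', w1, w2, w3⟩ := exists_witness ho' hq' h4
    have hr' : symmDiff o' q' ∈ octads := ⟨symmDiff_mem_supports ho'.1 hq'.1, by omega⟩
    -- surjectivity on octads
    obtain ⟨p, hp, hfp⟩ : ∃ p ∈ octads, Eqv (f p) p' := by
      classical
      let g : ↥octads → ↥octads := fun x => ⟨_, (hf.octad x.2).choose_spec.1⟩
      have hg : ∀ x : ↥octads, Eqv (f x.1) (g x).1 := fun x => (hf.octad x.2).choose_spec.2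
      have hinj : Function.Injective g := fun x y e => Subtype.ext <| hf.eq_of_eqv x.2 y.2
        ((hg x).trans (e ▸ (hg y).symm))
      obtain ⟨x, hx⟩ := (Finite.injective_iff_surjective.1 hinj) ⟨p', hp'⟩
      exact ⟨x.1, x.2, by have := hg x; rwa [hx] at this⟩
    have two : ∀ a a' : Finset GolayPt, a ∈ octads → a' ∈ octads → Eqv (f a) a' →
        (p' ∩ a').card = 2 → (p ∩ a).card = 2 := by
      intro a a' ha ha' hfa hpa
      obtain ⟨σ', hσ', hσ'e⟩ := hf.orbit _ (symmDiff_mem_supports hp.1 ha.1)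
      have hc' := ((hσ'e.symm.trans ((hf.add p a hp.1 ha.1).trans (hfp.symmDiff hfa)))).card
      rw [Finset.card_smul_finset] at hc'
      have i1 := card_symmDiff_add (s := p) (t := a)
      have i2 := card_symmDiff_add (s := p') (t := a')
      rw [hp.2, ha.2] at i1
      rw [hp'.2, ha'.2] at i2
      omega
    have hr : (symmDiff o q)ᶜ ∈ octads := by
      refine ⟨compl_mem_supports (symmDiff_mem_supports ho.1 hq.1), ?_⟩
      rw [Finset.card_compl, show Fintype.card GolayPt = 24 from rfl]
      omega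
    obtain ⟨r₀, hr₀, hfr⟩ := hf.octad hr
    -- the image of the third octad is the sum
    have hfu : Eqv (f (symmDiff o q)ᶜ) (symmDiff o' q') := by
      have hu : (Finset.univ : Finset GolayPt) ∈ supports (golayCode : Set (GolayPt → ZMod 2)) := by
        have := compl_mem_supports (symmDiff_mem_supports ho.1 ho.1)
        rwa [symmDiff_self, Finset.bot_eq_empty, Finset.compl_empty] at this
      obtain ⟨τ, hτ, hτe⟩ := hf.orbit _ hu
      rw [Finset.smul_finset_univ] at hτe
      have h' := hf.add _ _ (symmDiff_mem_supports ho.1 hq.1) hu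
      rw [show symmDiff (symmDiff o q) Finset.univ = (symmDiff o q)ᶜ from by
        ext x; simp [Finset.mem_symmDiff] <;> tauto] at h'
      refine (h'.trans (hsum.symmDiff hτe)).trans (.inr ?_)
      ext x
      simp only [Finset.mem_symmDiff, Finset.mem_univ, Finset.mem_compl, not_true, true_and,
        and_false, false_or]
    have hr₀' : r₀ = symmDiff o' q' := eq_of_eqv_octads hr₀.2 hr'.2 (hfr.symm.trans hfu)
    exact not_witness_of_disjoint ho.2 hq.2 h0 (r := (symmDiff o q)ᶜ) (.inr rfl) hr.2 hp.2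
      ⟨two o o' ho ho' h1 w1, two q q' hq hq' h2 w2, two _ _ hr hr' (hr₀' ▸ hfr) w3⟩
  have c1 := card_inter_cases ho hq
  have c2 := card_inter_cases ho' hq'
  have n1 := h8 o q ho hq hne
  have n2 := h8 o' q' ho' hq' hne'
  rcases c1 with h | h | h | h <;> rcases c2 with h' | h' | h' | h' <;>
    first | omega | exact (hz h h').elim | exact (hz' h' h).elim

/-! ### The certificate -/

/-- The sum of a list of masks. -/
def xorAll (L : List ℕ) : ℕ := L.foldr (fun a b => a ^^^ b) 0

/-- The sum fixes the mask, up to complement. -/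
def Fixed (f : Finset GolayPt → Finset GolayPt) (m : ℕ) : Prop :=
  ptSet m ∈ supports (golayCode : Set (GolayPt → ZMod 2)) ∧ Eqv (f (ptSet m)) (ptSet m)

lemma Good.fixed_zero (hf : Good f) : Fixed f 0 := by
  have hm : ptSet 0 ∈ supports (golayCode : Set (GolayPt → ZMod 2)) :=
    (ptSet_mem_supports_iff (by norm_num)).2 (zero_mem_spanList _)
  refine ⟨hm, ?_⟩
  obtain ⟨σ, -, h⟩ := hf.orbit _ hm
  rw [ptSet_zero] at h ⊢
  rwa [Finset.smul_finset_empty] at h

lemma Good.fixed_full (hf : Good f) : Fixed f fullMask := by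
  have hm : ptSet fullMask ∈ supports (golayCode : Set (GolayPt → ZMod 2)) :=
    (ptSet_mem_supports_iff (by decide +kernel)).2 (inCode_iff.1 (by decide +kernel))
  refine ⟨hm, ?_⟩
  obtain ⟨σ, -, h⟩ := hf.orbit _ hm
  rw [ptSet_fullMask] at h ⊢
  rwa [Finset.smul_finset_univ] at h

lemma Good.fixed_xorAll (hf : Good f) :
    ∀ {L : List ℕ}, (∀ m ∈ L, Fixed f m) → Fixed f (xorAll L)
  | [], _ => hf.fixed_zero
  | a :: t, h => by
    obtain ⟨hm, he⟩ := hf.fixed_xorAll (L := t) fun m hm => h m (List.mem_cons_of_mem _ hm)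
    obtain ⟨ha, hae⟩ := h a List.mem_cons_self
    show Fixed f (a ^^^ xorAll t)
    rw [Fixed, ptSet_xor]
    exact ⟨symmDiff_mem_supports ha hm, (hf.add _ _ ha hm).trans (hae.symmDiff he)⟩

/-- One step of the certificate after the octads `S`. -/
def stepOK (S : List ℕ) (q : ℕ) (E : List (List ℕ)) (T : List ℕ) : Bool :=
  octadList.contains q &&
    (E.all fun c => octadList.contains (xorAll c) &&
      c.all fun x => S.contains x || x == fullMask) &&
    (T.all fun t => inM24 t && S.all fun s => tblImg t s == s) &&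
    (octadList.all fun p =>
      (E.any fun c => !(popCnt (p &&& xorAll c) == popCnt (q &&& xorAll c))) ||
        T.any fun t => tblImg t q == p)

/-- All steps. -/
def runOK : List ℕ → List (ℕ × List (List ℕ) × List ℕ) → Bool
  | _, [] => true
  | S, (q, E, T) :: rest => stepOK S q E T && runOK (q :: S) rest

theorem Good.run : ∀ (S : List ℕ) (L : List (ℕ × List (List ℕ) × List ℕ)), runOK S L = true →
    ∀ {f : Finset GolayPt → Finset GolayPt}, Good f → (∀ s ∈ S, Fixed f s) →
    ∃ σ ∈ M24, ∀ s ∈ (L.map fun l => l.1).reverse ++ S,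
      Fixed (fun c => (σ : Equiv.Perm GolayPt) • f c) s
  | S, [], _, f, _, hS => ⟨1, one_mem _, fun s hs => by simpa using hS s (by simpa using hs)⟩
  | S, (q, E, T) :: rest, h, f, hf, hS => by
    simp only [runOK, stepOK, Bool.and_eq_true, List.all_eq_true, List.contains_iff_mem] at h
    obtain ⟨⟨⟨⟨hq, hE⟩, hT⟩, hcand⟩, hrest⟩ := h
    have hqo := ptSet_mem_octads hq
    obtain ⟨q', hq', hfq⟩ := hf.octad hqo
    have hmq := mem_octads_iff.1 hq'
    have hcase := hcand _ hmq
    rw [Bool.or_eq_true, List.any_eq_true, List.any_eq_true] at hcase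
    rcases hcase with ⟨c, hc, hbad⟩ | ⟨t, ht, hte⟩
    · exfalso
      obtain ⟨hco, hcS⟩ := hE c hc
      obtain ⟨-, hce⟩ := hf.fixed_xorAll (L := c) fun m hm => by
        rcases Bool.or_eq_true_iff.1 (hcS m hm) with h' | h'
        · exact hS m (List.contains_iff_mem.1 h')
        · exact eq_of_beq h' ▸ hf.fixed_full
      have := hf.card_inter hqo (ptSet_mem_octads hco) hq' (ptSet_mem_octads hco) hfq hce
      rw [← ptSet_maskOf q', ← ptSet_and, ← ptSet_and, card_ptSet, card_ptSet] at this
      simp [this] at hbad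
    · obtain ⟨htM, htS⟩ := hT t ht
      have hv := validT_of_inM24 htM
      have hτ : (mkPerm t)⁻¹ ∈ M24 := inv_mem (mem_M24_of_inM24 htM)
      have hfix : ∀ s ∈ q :: S, Fixed (fun c => (mkPerm t)⁻¹ • f c) s := by
        intro s hs
        rcases List.mem_cons.1 hs with rfl | hs
        · refine ⟨hqo.1, ?_⟩
          have := hfq.smul (mkPerm t)⁻¹
          rwa [← ptSet_maskOf q', ← eq_of_beq hte, ptSet_tblImg hv, inv_smul_smul] at this
        · refine ⟨(hS s hs).1, ?_⟩
          have := (hS s hs).2.smul (mkPerm t)⁻¹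
          rwa [show (mkPerm t)⁻¹ • ptSet s = ptSet s by
            rw [inv_smul_eq_iff, ← ptSet_tblImg hv, eq_of_beq (htS s hs)]] at this
      obtain ⟨σ, hσ, hfin⟩ := Good.run (q :: S) rest hrest (hf.twist hτ) hfix
      refine ⟨σ * (mkPerm t)⁻¹, mul_mem hσ hτ, fun s hs => ?_⟩
      have := hfin s (by simpa [or_assoc, or_comm, or_left_comm] using hs)
      simpa only [mul_smul] using this

lemma run_check : runOK [firstOct] steps = true := by decide +kernel

lemma basis_check :
    (basisCombos.map xorAll == basisList &&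
      basisCombos.all fun c => c.all fun x =>
        ((steps.map fun l => l.1).reverse ++ [firstOct]).contains x || x == fullMask) = true := by
  decide +kernel

theorem Good.exists_eqv (hf : Good f) :
    ∃ σ ∈ M24, ∀ c, c ∈ supports (golayCode : Set (GolayPt → ZMod 2)) →
      Eqv (f c) ((σ : Equiv.Perm GolayPt) • c) := by
  have h0 := ptSet_mem_octads (List.contains_iff_mem.1 witness_check.2)
  obtain ⟨o', ho', he⟩ := hf.octad h0
  obtain ⟨g, hg⟩ := exists_M24_map_octad ho' h0
  obtain ⟨σ, hσ, hfix⟩ := Good.run [firstOct] steps run_check (hf.twist g.2) fun s hs => by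
    rw [List.mem_singleton] at hs
    subst hs
    refine ⟨h0.1, ?_⟩
    have := he.smul (g : Equiv.Perm GolayPt)
    rwa [show (g : Equiv.Perm GolayPt) • o' = ptSet firstOct from hg] at this
  have hgood := (hf.twist g.2).twist hσ
  obtain ⟨hb, hbc⟩ : _ ∧ _ := Bool.and_eq_true _ _ ▸ basis_check
  rw [List.all_eq_true] at hbc
  have hall : ∀ m ∈ codeList,
      Fixed (fun c => σ • (g : Equiv.Perm GolayPt) • f c) m := by
    refine spanList_induction
      (P := fun m => Fixed (fun c => σ • (g : Equiv.Perm GolayPt) • f c) m) _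
      hgood.fixed_zero (fun b hb' => ?_) fun a b ha hb' => ?_
    · rw [List.mem_reverse, ← eq_of_beq hb, List.mem_map] at hb'
      obtain ⟨c, hc, rfl⟩ := hb'
      refine hgood.fixed_xorAll fun m hm => ?_
      rcases Bool.or_eq_true_iff.1 (List.all_eq_true.1 (hbc c hc) m hm) with h' | h'
      · exact hfix m (List.contains_iff_mem.1 h')
      · exact eq_of_beq h' ▸ hgood.fixed_full
    · rw [Fixed, ptSet_xor]
      exact ⟨symmDiff_mem_supports ha.1 hb'.1,
        (hgood.add _ _ ha.1 hb'.1).trans (ha.2.symmDiff hb'.2)⟩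
  refine ⟨(g : Equiv.Perm GolayPt)⁻¹ * σ⁻¹, mul_mem (inv_mem g.2) (inv_mem hσ), fun c hc => ?_⟩
  have h1 := (hall _ (mem_supports_iff.1 hc)).2.smul ((g : Equiv.Perm GolayPt)⁻¹ * σ⁻¹)
  rw [ptSet_maskOf] at h1
  simpa only [mul_smul, inv_smul_smul] using h1

end Cfsg.Agent.H94.M24.OrbitRigid
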