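import Cfsg.Agent.H94.M24.Class

/-!
All elements of a point stabiliser carrying one given element to another by conjugation.
-/

set_option autoImplicit false

namespace Cfsg.Agent.H94.M24

open Cfsg Cfsg.Agent.Golay
open scoped Pointwise

/-- The mask of all base positions. -/
def lastMask : ℕ := 0 ||| 2 ^ 23 ||| 2 ^ 0 ||| 2 ^ 1 ||| 2 ^ 2 ||| 2 ^ 3 ||| 2 ^ 5 ||| 2 ^ 4

lemma stabGrp_lastMask : stabGrp [] lastMask = ⊥ := stabGrp_eq_bot' (by decide +kernel)

/-- The relation test, on every position once all base positions are fixed. -/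
def okRelFull (r r' F : ℕ) (f : ℕ → ℕ) : Bool :=
  okRel r r' (bif F == lastMask then fullMask else F) f

/-- The tables `t` of the stabiliser of `F` with `t r = r' t`. -/
def relList (r r' F : ℕ) (L : List (ℕ × List ℕ)) : List ℕ :=
  (search (okRelFull r r') F L idTblVal).filter fun t => tblEq (tblMul t r) (tblMul r' t)

lemma mem_relList {r r' F : ℕ} {L : List (ℕ × List ℕ)} (hr : validT r = true)
    (hr' : validT r' = true) (hL : checkChain [] F L = true) {σ : Equiv.Perm GolayPt}
    (hσ : σ ∈ stabGrp [] F) (h : σ * mkPerm r = mkPerm r' * σ) :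
    ∃ t ∈ relList r r' F L, validT t = true ∧ mkPerm t = σ := by
  obtain ⟨t, ht, hv, he⟩ := mem_search (ok := okRelFull r r')
    (P := fun σ => σ * mkPerm r = mkPerm r' * σ)
    (fun F f _ h hf => by
      refine okRel_of_rel hr hr' h fun i hi hb => hf i hi ?_
      by_cases hF : F = lastMask
      · exact .inr (hF ▸ stabGrp_lastMask)
      · rw [show (F == lastMask) = false from beq_eq_false_iff_ne.2 hF, cond_false] at hb
        exact .inl hb) F L idTblVal hL idTblVal_spec.1 σ hσ
    (by rw [idTblVal_spec.2, one_mul]; exact h)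
  rw [idTblVal_spec.2, one_mul] at he
  refine ⟨t, List.mem_filter.2 ⟨ht, ?_⟩, hv, he⟩
  rw [tblEq_iff (tblMul_spec hv hr).1 (tblMul_spec hr' hv).1, (tblMul_spec hv hr).2,
    (tblMul_spec hr' hv).2, he]
  exact h

lemma rel_of_mem_relList {r r' F : ℕ} {L : List (ℕ × List ℕ)} (hr : validT r = true)
    (hr' : validT r' = true) {t : ℕ} (hv : validT t = true) (ht : t ∈ relList r r' F L) :
    mkPerm t * mkPerm r = mkPerm r' * mkPerm t := by
  have h := (List.mem_filter.1 ht).2
  rwa [tblEq_iff (tblMul_spec hv hr).1 (tblMul_spec hr' hv).1, (tblMul_spec hv hr).2,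
    (tblMul_spec hr' hv).2] at h

lemma idTblVal_canon : canonT idTblVal = true := by decide +kernel

lemma relList_nodup {r r' F : ℕ} {L : List (ℕ × List ℕ)} (hL : checkChain [] F L = true) :
    (relList r r' F L).Nodup :=
  (search_nodup F L idTblVal hL idTblVal_canon).filter _

lemma relList_sound {r r' F : ℕ} {L : List (ℕ × List ℕ)} (hr : validT r = true)
    (hr' : validT r' = true) (hL : checkChain [] F L = true) {t : ℕ}
    (ht : t ∈ relList r r' F L) :
    canonT t = true ∧ mkPerm t ∈ stabGrp [] F ∧ mkPerm t * mkPerm r = mkPerm r' * mkPerm t := by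
  obtain ⟨hc, τ, hτ, he⟩ := search_sound F L idTblVal hL idTblVal_canon t (List.mem_filter.1 ht).1
  rw [idTblVal_spec.2, one_mul] at he
  exact ⟨hc, he ▸ hτ, rel_of_mem_relList hr hr' (canonT_validT hc) ht⟩

lemma root_chain : checkChain [] 0 m24Chain = true := m24Chain_check

lemma point_chain : checkChain [] (0 ||| 2 ^ 23) (m24Chain.drop 1) = true := by decide +kernel

end Cfsg.Agent.H94.M24
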