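import Cfsg.Agent.H94.M24.Class
import Cfsg.Agent.Golay.Stabilisers

/-!
Sets of six of the 24 points.
-/

set_option autoImplicit false

namespace Cfsg.Agent.H94.M24

open Cfsg Cfsg.Agent.Golay
open scoped Pointwise

/-- The first five base positions. -/
def fiveMask : ℕ := 0 ||| 2 ^ 23 ||| 2 ^ 0 ||| 2 ^ 1 ||| 2 ^ 2 ||| 2 ^ 3

/-- A six-set inside an octad. -/
def sixIn : ℕ := fiveMask ||| 2 ^ 5

/-- A six-set in no octad. -/
def sixOut : ℕ := fiveMask ||| 2 ^ 4

lemma six_facts :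
    checkChain [] sixIn (m24Chain.drop 6) = true ∧ chainCard (m24Chain.drop 6) = 16 ∧
    checkChain [] sixOut [(5, lvlTrans m24Chain 5)] = true ∧
    chainCard [(5, lvlTrans m24Chain 5)] = 3 ∧
    (octadList.any fun o => o &&& sixIn == sixIn) = true ∧
    (octadList.all fun o => !(o &&& sixOut == sixOut)) = true ∧
    popCnt sixIn = 6 ∧ popCnt sixOut = 6 ∧
    (lvlTrans m24Chain 5 ++ lvlTrans m24Chain 6).all (inStab [] fiveMask) = true ∧
    ((List.range 24).all fun q => fiveMask.testBit q ||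
      ((lvlTrans m24Chain 5).any fun u => app u 5 == q) ||
      ((lvlTrans m24Chain 6).any fun u => app u 4 == q)) = true := by
  decide +kernel

lemma swap_facts :
    inM24 swapIn = true ∧ inM24 swapOut = true ∧
    [app swapIn 23, app swapIn 0, app swapIn 1, app swapIn 2, app swapIn 3, app swapIn 5]
      = [0, 23, 1, 2, 3, 5] ∧
    [app swapOut 23, app swapOut 0, app swapOut 1, app swapOut 2, app swapOut 3, app swapOut 4]
      = [0, 23, 1, 2, 3, 4] := by
  decide +kernel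

lemma mem_fiveMask {x : GolayPt} :
    x ∈ ptSet fiveMask ↔ x = pt 23 ∨ x = pt 0 ∨ x = pt 1 ∨ x = pt 2 ∨ x = pt 3 := by
  simp only [fiveMask, ptSet_or, ptSet_zero, Finset.mem_union, Finset.notMem_empty, false_or,
    ptSet_two_pow (by norm_num : (23 : ℕ) < 24), ptSet_two_pow (by norm_num : (0 : ℕ) < 24),
    ptSet_two_pow (by norm_num : (1 : ℕ) < 24), ptSet_two_pow (by norm_num : (2 : ℕ) < 24),
    ptSet_two_pow (by norm_num : (3 : ℕ) < 24), Finset.mem_singleton, or_assoc]

theorem exists_six_map {E : Finset GolayPt} (hE : E.card = 6) {p q : GolayPt} (hp : p ∈ E)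
    (hq : q ∈ E) (hpq : p ≠ q) :
    ∃ S, (S = sixIn ∨ S = sixOut) ∧ ∃ k ∈ M24,
      (k : Equiv.Perm GolayPt) • ptSet S = E ∧ k (pt 23) = p ∧ k (pt 0) = q := by
  have h4 : ((E.erase p).erase q).card = 4 := by
    rw [Finset.card_erase_of_mem (Finset.mem_erase.2 ⟨Ne.symm hpq, hq⟩),
      Finset.card_erase_of_mem hp, hE]
  have hlen : ((E.erase p).erase q).toList.length = 4 := by rw [Finset.length_toList, h4]
  have hnd := ((E.erase p).erase q).nodup_toList
  have hmem : ∀ x ∈ ((E.erase p).erase q).toList, x ≠ q ∧ x ≠ p ∧ x ∈ E := fun x hx => by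
    simpa [Finset.mem_erase] using hx
  generalize ((E.erase p).erase q).toList = l at hlen hnd hmem
  match l, hlen with
  | [a, b, c, r], _ =>
    obtain ⟨na, nb, nc, nr⟩ : _ ∧ _ ∧ _ ∧ _ :=
      ⟨hmem a (by simp), hmem b (by simp), hmem c (by simp), hmem r (by simp)⟩
    simp only [List.nodup_cons, List.mem_cons, List.not_mem_nil, or_false, not_or,
      not_false_eq_true, List.nodup_nil, and_true] at hnd
    obtain ⟨⟨ab, ac, ar⟩, ⟨bc, br⟩, cr⟩ := hnd
    obtain ⟨k, hk, he⟩ := exists_map_list (l := [pt 23, pt 0, pt 1, pt 2, pt 3])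
      (l' := [p, q, a, b, c]) rfl (by norm_num) (by decide)
      (by simp [hpq, ab, ac, bc, Ne.symm na.1, Ne.symm na.2.1, Ne.symm nb.1, Ne.symm nb.2.1,
        Ne.symm nc.1, Ne.symm nc.2.1])
    simp only [List.map_cons, List.map_nil, List.cons.injEq, and_true] at he
    obtain ⟨e23, e0, e1, e2, e3⟩ := he
    have hs : k.symm r ∉ ptSet fiveMask := by
      rw [mem_fiveMask]
      simp only [Equiv.symm_apply_eq, e23, e0, e1, e2, e3]
      rintro (h | h | h | h | h)
      exacts [nr.2.1 h, nr.1 h, ar h.symm, br h.symm, cr h.symm]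
    obtain ⟨-, -, -, -, -, -, h6i, h6o, hst, hcov⟩ := six_facts
    rw [mem_ptSet] at hs
    have key : ∀ u b', b' < 24 → inStab [] fiveMask u = true → app u b' = idx (k.symm r) →
        popCnt (fiveMask ||| 2 ^ b') = 6 →
        ∃ k' ∈ M24, (k' : Equiv.Perm GolayPt) • ptSet (fiveMask ||| 2 ^ b') = E ∧
          k' (pt 23) = p ∧ k' (pt 0) = q := by
      intro u b' hb' hu happ hc
      have hmu := mem_stabGrp_of_inStab hu
      have hvu : validT u = true := by
        simp only [inStab, Bool.and_eq_true] at hu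
        exact validT_of_inM24 hu.1.1
      have hfix : ∀ x ∈ ptSet fiveMask, (k * mkPerm u) x = k x := fun x hx => by
        rw [Equiv.Perm.mul_apply, hmu.2.2 x hx]
      refine ⟨k * mkPerm u, mul_mem hk hmu.1, ?_, ?_, ?_⟩
      · refine smul_eq_of_image (fun x hx => ?_) (by rw [hE, card_ptSet, hc])
        rw [ptSet_or, Finset.mem_union, ptSet_two_pow hb', Finset.mem_singleton] at hx
        rcases hx with hx | rfl
        · rw [hfix x hx]
          rcases mem_fiveMask.1 hx with rfl | rfl | rfl | rfl | rfl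
          exacts [e23 ▸ hp, e0 ▸ hq, e1 ▸ na.2.2, e2 ▸ nb.2.2, e3 ▸ nc.2.2]
        · rw [Equiv.Perm.mul_apply, mkPerm_pt hvu hb', happ, pt_idx, Equiv.apply_symm_apply]
          exact nr.2.2
      · rw [hfix _ (mem_fiveMask.2 (by simp)), e23]
      · rw [hfix _ (mem_fiveMask.2 (by simp)), e0]
    have hq' := List.all_eq_true.1 hcov (idx (k.symm r)) (List.mem_range.2 (idx_lt _))
    simp only [Bool.or_eq_true, List.any_eq_true, beq_iff_eq] at hq'
    rw [List.all_append, Bool.and_eq_true, List.all_eq_true, List.all_eq_true] at hst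
    rcases hq' with (h | ⟨u, hu, happ⟩) | ⟨u, hu, happ⟩
    · exact absurd h hs
    · exact ⟨sixIn, .inl rfl, key u 5 (by norm_num) (hst.1 u hu) happ h6i⟩
    · exact ⟨sixOut, .inr rfl, key u 4 (by norm_num) (hst.2 u hu) happ h6o⟩

theorem exists_six_swap {E : Finset GolayPt} (hE : E.card = 6) {p q : GolayPt} (hp : p ∈ E)
    (hq : q ∈ E) (hpq : p ≠ q) :
    ∃ h ∈ M24, ∀ x ∈ E, (h : Equiv.Perm GolayPt) x = Equiv.swap p q x := by
  obtain ⟨S, hS, k, hk, hkS, hkp, hkq⟩ := exists_six_map hE hp hq hpq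
  obtain ⟨hIn, hOut, eIn, eOut⟩ := swap_facts
  simp only [List.cons.injEq, and_true] at eIn eOut
  have key : ∀ T b', b' < 24 → inM24 T = true → app T 23 = 0 → app T 0 = 23 → app T 1 = 1 →
      app T 2 = 2 → app T 3 = 3 → app T b' = b' →
      ∀ x ∈ ptSet (fiveMask ||| 2 ^ b'), mkPerm T x = Equiv.swap (pt 23) (pt 0) x := by
    intro T b' hb' hT h23 h0 h1 h2 h3 h6 x hx
    have hv := validT_of_inM24 hT
    rw [ptSet_or, Finset.mem_union, ptSet_two_pow hb', Finset.mem_singleton, mem_fiveMask] at hx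
    have hfix : ∀ j, j < 24 → app T j = j →
        mkPerm T (pt j) = Equiv.swap (pt 23) (pt 0) (pt j) := by
      intro j hj hT'
      rw [mkPerm_pt hv hj, hT', Equiv.swap_apply_of_ne_of_ne]
      · rw [Ne, pt_inj hj (by norm_num)]
        rintro rfl
        omega
      · rw [Ne, pt_inj hj (by norm_num)]
        rintro rfl
        omega
    rcases hx with (rfl | rfl | rfl | rfl | rfl) | rfl
    · rw [mkPerm_pt hv (by norm_num), h23, Equiv.swap_apply_left]
    · rw [mkPerm_pt hv (by norm_num), h0, Equiv.swap_apply_right]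
    · exact hfix 1 (by norm_num) h1
    · exact hfix 2 (by norm_num) h2
    · exact hfix 3 (by norm_num) h3
    · exact hfix b' hb' h6
  have key' : ∃ t ∈ M24, ∀ x ∈ ptSet S,
      (t : Equiv.Perm GolayPt) x = Equiv.swap (pt 23) (pt 0) x := by
    rcases hS with rfl | rfl
    · exact ⟨_, mem_M24_of_inM24 hIn,
        key _ 5 (by norm_num) hIn eIn.1 eIn.2.1 eIn.2.2.1 eIn.2.2.2.1 eIn.2.2.2.2.1 eIn.2.2.2.2.2⟩
    · exact ⟨_, mem_M24_of_inM24 hOut,
        key _ 4 (by norm_num) hOut eOut.1 eOut.2.1 eOut.2.2.1 eOut.2.2.2.1 eOut.2.2.2.2.1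
          eOut.2.2.2.2.2⟩
  obtain ⟨t, ht, hts⟩ := key'
  refine ⟨k * t * k⁻¹, mul_mem (mul_mem hk ht) (inv_mem hk), fun x hx => ?_⟩
  rw [← hkS, mem_smul_finset_iff] at hx
  rw [Equiv.Perm.mul_apply, Equiv.Perm.mul_apply, Equiv.Perm.inv_def, hts _ hx, ← hkp, ← hkq]
  rw [← k.injective.swap_apply, Equiv.apply_symm_apply]

theorem six_pointwise_card {S : ℕ} (hS : S = sixIn ∨ S = sixOut) :
    Nat.card (stabGrp [] S) = if S = sixIn then 16 else 3 := by
  obtain ⟨c1, n1, c2, n2, -⟩ := six_facts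
  rcases hS with rfl | rfl
  · rw [if_pos rfl, card_stabGrp c1, n1]
  · rw [if_neg (by decide +kernel), card_stabGrp c2, n2]

theorem six_octad {S : ℕ} (hS : S = sixIn ∨ S = sixOut) :
    (∃ o ∈ octads, ptSet S ⊆ o) ↔ S = sixIn := by
  obtain ⟨-, -, -, -, hin, hout, -⟩ := six_facts
  have hlt : sixOut < 2 ^ 24 := by decide +kernel
  have sub : ∀ o m : ℕ, m < 2 ^ 24 → o < 2 ^ 24 → (o &&& m = m ↔ ptSet m ⊆ ptSet o) := by
    intro o m hm ho
    rw [← Finset.inter_eq_right, ← ptSet_and]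
    exact ⟨fun h => by rw [h], ptSet_injOn (and_lt_full ho) hm⟩
  rcases hS with rfl | rfl
  · refine iff_of_true ?_ rfl
    obtain ⟨o, ho, he⟩ := List.any_eq_true.1 hin
    exact ⟨ptSet o, ptSet_mem_octads ho,
      (sub o sixIn (by decide +kernel) (octadList_lt ho)).1 (eq_of_beq he)⟩
  · refine iff_of_false ?_ (by decide +kernel)
    rintro ⟨o, ho, hsub⟩
    rw [← ptSet_maskOf o, ← sub _ _ hlt (maskOf_lt o)] at hsub
    have := List.all_eq_true.1 hout _ (mem_octads_iff.1 ho)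
    simp [hsub] at this

end Cfsg.Agent.H94.M24
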