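import Cfsg.Agent.H94.M24.TrioList
import Cfsg.Agent.Golay.OctadCount

/-!
The trio table is complete.
-/

set_option autoImplicit false

namespace Cfsg.Agent.H94.M24

open Cfsg.Agent.Golay

/-- Members of `l` completing `a` to a sorted triple of disjoint masks. -/
noncomputable def partners (a : ℕ) (l : List ℕ) : List ℕ :=
  List.rec [] (fun b _ r => bif Nat.beq (Nat.land a b) 0 then
    (bif Nat.ble (b + 1) (fullMask ^^^ (a ||| b)) then b :: r else r) else r) l

/-- The rows of the trio table, looking only at later entries. -/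
noncomputable def trioRows (l : List ℕ) : List (ℕ × List ℕ) :=
  List.rec [] (fun a t r => (a, partners a t) :: r) l

lemma mem_partners {a b : ℕ} : ∀ {l : List ℕ}, b ∈ partners a l ↔
    b ∈ l ∧ a &&& b = 0 ∧ b < fullMask ^^^ (a ||| b)
  | [] => by simp [partners]
  | x :: t => by
    have ih := mem_partners (a := a) (b := b) (l := t)
    show b ∈ (bif Nat.beq (Nat.land a x) 0 then
      (bif Nat.ble (x + 1) (fullMask ^^^ (a ||| x)) then x :: partners a t else partners a t)
      else partners a t) ↔ _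
    by_cases h1 : a &&& x = 0
    · rw [show Nat.beq (Nat.land a x) 0 = true from by
        rw [show Nat.land a x = 0 from h1]; rfl, cond_true]
      by_cases h2 : x < fullMask ^^^ (a ||| x)
      · rw [Nat.ble_eq_true_of_le h2, cond_true, List.mem_cons, List.mem_cons, ih]
        constructor
        · rintro (rfl | ⟨h, h'⟩)
          exacts [⟨.inl rfl, h1, h2⟩, ⟨.inr h, h'⟩]
        · rintro ⟨rfl | h, h'⟩
          exacts [.inl rfl, .inr ⟨h, h'⟩]
      · rw [Bool.eq_false_iff.2 fun e => h2 (Nat.le_of_ble_eq_true e), cond_false, List.mem_cons,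
          ih]
        exact ⟨fun h => ⟨.inr h.1, h.2⟩, fun h => ⟨h.1.resolve_left fun e => h2 (e ▸ h.2.2), h.2⟩⟩
    · rw [show Nat.beq (Nat.land a x) 0 = false from
        Bool.eq_false_iff.2 fun e => h1 (Nat.eq_of_beq_eq_true e), cond_false, List.mem_cons, ih]
      exact ⟨fun h => ⟨.inr h.1, h.2⟩, fun h => ⟨h.1.resolve_left fun e => h1 (e ▸ h.2.1), h.2⟩⟩

lemma mem_trioRows : ∀ {l : List ℕ}, l.Pairwise (· < ·) → ∀ {a : ℕ} {bs : List ℕ},
    (a, bs) ∈ trioRows l →
    a ∈ l ∧ ∀ b, b ∈ bs ↔ b ∈ l ∧ (a &&& b = 0 ∧ a < b) ∧ b < fullMask ^^^ (a ||| b)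
  | [], _, a, bs, h => by simp [trioRows] at h
  | x :: t, hl, a, bs, h => by
    rw [List.pairwise_cons] at hl
    change (a, bs) ∈ (x, partners x t) :: trioRows t at h
    rcases List.mem_cons.1 h with h | h
    · simp only [Prod.mk.injEq] at h
      obtain ⟨rfl, rfl⟩ := h
      refine ⟨List.mem_cons_self, fun b => ?_⟩
      rw [mem_partners, List.mem_cons]
      constructor
      · rintro ⟨hb, h1, h2⟩
        exact ⟨.inr hb, ⟨h1, hl.1 b hb⟩, h2⟩
      · rintro ⟨rfl | hb, ⟨h1, h3⟩, h2⟩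
        exacts [absurd h3 (lt_irrefl _), ⟨hb, h1, h2⟩]
    · obtain ⟨ha, hiff⟩ := mem_trioRows hl.2 h
      refine ⟨List.mem_cons_of_mem _ ha, fun b => ?_⟩
      rw [hiff b, List.mem_cons]
      constructor
      · rintro ⟨hb, h'⟩; exact ⟨.inr hb, h'⟩
      · rintro ⟨rfl | hb, h'⟩
        exacts [absurd h'.1.2 (not_lt.2 (hl.1 a ha).le), ⟨hb, h'⟩]

lemma exists_trioRows : ∀ {l : List ℕ} {a : ℕ}, a ∈ l → ∃ bs, (a, bs) ∈ trioRows l
  | x :: t, a, h => by
    show ∃ bs, (a, bs) ∈ (x, partners x t) :: trioRows t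
    rcases List.mem_cons.1 h with rfl | h
    · exact ⟨_, List.mem_cons_self⟩
    · obtain ⟨bs, hbs⟩ := exists_trioRows h
      exact ⟨bs, List.mem_cons_of_mem _ hbs⟩

lemma trioList_check : (trioRows octadList == trioList) = true := by decide +kernel

lemma trioList_mem {a : ℕ} {bs : List ℕ} (h : (a, bs) ∈ trioList) :
    a ∈ octadList ∧ ∀ b, b ∈ bs ↔
      b ∈ octadList ∧ (a &&& b = 0 ∧ a < b) ∧ b < fullMask ^^^ (a ||| b) :=
  mem_trioRows (isIncr_pairwise (by decide +kernel)) (eq_of_beq trioList_check ▸ h)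

lemma exists_trioList {a : ℕ} (h : a ∈ octadList) : ∃ bs, (a, bs) ∈ trioList :=
  eq_of_beq trioList_check ▸ exists_trioRows h

end Cfsg.Agent.H94.M24
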